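import Cfsg.Agent.OddHalf.D8.TypeE
import Cfsg.Agent.LargeExtra.Dickson
import Cfsg.Prelude.Def_ClassificationK
import Cfsg.Agent.LargeExtra.Base
import Cfsg.Agent.Transfer.PGroupNormal
import Cfsg.Agent.OddHalf.D8.MainE
import Cfsg.Agent.OddHalf.D8.HS.SheetHS
import Cfsg.Agent.OddHalf.D8.HS.CompM
import Cfsg.Agent.OddHalf.CaseM.End
import Cfsg.Agent.Schreier.ClassBase
import Mathlib
import Cfsg.Agent.OddHalf.D8.HS.CompV
import Cfsg.Agent.OddHalf.D8.HS.Elim

-- merged: Cfsg.Agent.OddHalf.D8.TypeHS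
section

/-!
# ODD half, D8, the K-free core for `K = HS` (helper702, after helper896's text)

`H = C_G(z)`, `N = C_G(⟨t, z⟩)`, `F = O₂(H) = F*(H)`, `P ≤ N` perfect and normal in `N`, `R = 4 ∘ 2^{1+4} ≤ P`,
`u ∈ Z(R)` of order four, `u² = z`, centralised by `P`.

If every `λ : H → {±1}` has `λ(t) = 1` and `t ∉ F`:
* `Data.symplectic`: `F` is of symplectic type;
* `Data.rank_eq`, `Data.card_eq`: if `F` is extraspecial, then `|F| = 2^9`, `[V, t]` has order four and contains `u`;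
* `Data.not_large` (helper970): if moreover `t^h = t x₀` with `x₀` as in `HS`, then `F` is not extraspecial.

`FS.false_of_L`: if `F*(C(s))` is a 2-group, `t ∈ C(s)` an involution, then `C(⟨t, s⟩)` has no perfect normal subgroup
`L ≠ 1` with `O₂(L) = 1`. `Data.t_notMem`: `t ∉ F` by the `y`-trick.
-/

set_option autoImplicit false
set_option linter.style.haveILetI false

namespace Cfsg.Agent.OddHalf.D8.TypeHS

open Subgroup Module
open Cfsg.Agent.Co2Type.Quad Cfsg.Agent.LargeExtra.TwoCentral Cfsg.Agent.LargeExtra.Dickson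

/-! ### cyclic 2-groups -/

/-- a finite abelian 2-group with at most one involution is cyclic -/
theorem isCyclic_of_sq {A : Type*} [CommGroup A] [Finite A] (hA : IsPGroup 2 A) (c : A)
    (h : ∀ a : A, a * a = 1 → a = 1 ∨ a = c) : IsCyclic A := by
  have key : ∀ k : ℕ, Nat.card (powMonoidHom (α := A) (2 ^ k)).ker ≤ 2 ^ k := by
    intro k
    induction k with
    | zero =>
      have : (powMonoidHom (α := A) (2 ^ 0)).ker = ⊥ := by
        rw [eq_bot_iff]
        intro x hx
        rw [MonoidHom.mem_ker, powMonoidHom_apply, pow_zero, pow_one] at hx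
        exact mem_bot.2 hx
      rw [this, Subgroup.card_bot, pow_zero]
    | succ k ih =>
      set K := (powMonoidHom (α := A) (2 ^ (k + 1))).ker with hK
      let g : K →* A := (powMonoidHom (α := A) (2 ^ k)).comp K.subtype
      have h1 : Nat.card K = Nat.card g.ker * Nat.card g.range := by
        have e := Nat.card_congr (QuotientGroup.quotientKerEquivRange g).toEquiv
        rw [← e, mul_comm]
        exact Subgroup.card_eq_card_quotient_mul_card_subgroup g.ker
      have h2 : Nat.card g.range ≤ 2 := by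
        have hsub : (g.range : Set A) ⊆ {1, c} := by
          rintro _ ⟨x, rfl⟩
          have hx : (x : A) ^ 2 ^ (k + 1) = 1 := x.2
          refine h _ ?_
          show (x : A) ^ 2 ^ k * (x : A) ^ 2 ^ k = 1
          rw [← pow_two, ← pow_mul, ← pow_succ]
          exact hx
        have h3 : Nat.card g.range = Set.ncard (g.range : Set A) := (Nat.card_coe_set_eq _)
        rw [h3]
        refine (Set.ncard_le_ncard hsub (Set.toFinite _)).trans ((Set.ncard_insert_le _ _).trans ?_)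
        rw [Set.ncard_singleton]
      have h3 : Nat.card g.ker ≤ 2 ^ k := by
        refine le_trans ?_ ih
        have hle : (g.ker).map K.subtype ≤ (powMonoidHom (α := A) (2 ^ k)).ker := by
          rintro _ ⟨x, hx, rfl⟩
          exact hx
        have h4 : Nat.card ((g.ker).map K.subtype) = Nat.card g.ker :=
          Nat.card_congr (Subgroup.equivMapOfInjective g.ker K.subtype K.subtype_injective).symm.toEquiv
        rw [← h4]
        exact Nat.card_le_card_of_injective (Subgroup.inclusion hle) (Subgroup.inclusion_injective hle)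
      rw [h1, pow_succ]
      exact Nat.mul_le_mul h3 h2
  obtain ⟨m, hm⟩ := (IsPGroup.iff_card.1 hA)
  have hexp : ∃ k, Monoid.exponent A = 2 ^ k := by
    have h1 : Monoid.exponent A ∣ 2 ^ m := by rw [← hm]; exact Group.exponent_dvd_nat_card
    obtain ⟨k, -, hk⟩ := (Nat.dvd_prime_pow Nat.prime_two).1 h1
    exact ⟨k, hk⟩
  obtain ⟨k, hk⟩ := hexp
  have h5 : Nat.card A ≤ 2 ^ k := by
    have h6 : (powMonoidHom (α := A) (2 ^ k)).ker = ⊤ := by
      rw [eq_top_iff]
      intro x _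
      rw [MonoidHom.mem_ker, powMonoidHom_apply, ← hk]
      exact Monoid.pow_exponent_eq_one x
    have := key k
    rwa [h6, Subgroup.card_top] at this
  refine IsCyclic.of_exponent_eq_card ?_
  refine le_antisymm ?_ (by rw [hk]; exact h5)
  exact Nat.le_of_dvd Nat.card_pos Group.exponent_dvd_nat_card

theorem finrank_span_le_one {V : Type*} [AddCommGroup V] [Module (ZMod 2) V] (v : V) :
    finrank (ZMod 2) (Submodule.span (ZMod 2) {v}) ≤ 1 :=
  (finrank_span_le_card ({v} : Set V)).trans (by simp)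

/-- adding one dimension -/
theorem finrank_le_succ {V : Type*} [AddCommGroup V] [Module (ZMod 2) V] [FiniteDimensional (ZMod 2) V]
    (W Y : Submodule (ZMod 2) V) (hY : ∀ v ∈ Y, ∀ w ∈ Y, v ∉ W → w ∉ W → v + w ∈ W) :
    finrank (ZMod 2) Y ≤ finrank (ZMod 2) W + 1 := by
  by_cases h : Y ≤ W
  · exact (Submodule.finrank_mono h).trans (Nat.le_succ _)
  · obtain ⟨v0, hv0, hv0W⟩ := Set.not_subset.1 h
    have h1 : Y ≤ W ⊔ Submodule.span (ZMod 2) {v0} := by
      intro w hw
      by_cases hwW : w ∈ W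
      · exact Submodule.mem_sup_left hwW
      · have h2 := hY w hw v0 hv0 hwW hv0W
        have h3 : w = (w + v0) + v0 := by
          have h4 : v0 + v0 = 0 := by
            rw [← two_smul (ZMod 2) v0, show (2 : ZMod 2) = 0 from rfl, zero_smul]
          rw [add_assoc, h4, add_zero]
        rw [h3]
        exact Submodule.add_mem_sup h2 (Submodule.mem_span_singleton_self v0)
    refine (Submodule.finrank_mono h1).trans ?_
    refine (Submodule.finrank_add_le_finrank_add_finrank _ _).trans ?_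
    refine Nat.add_le_add_left ?_ _
    exact finrank_span_le_one v0

variable {G : Type*} [Group G]

/-! ### abelian normal subgroups -/

/-- the standing hypotheses -/
structure Hyp (t z : G) (F : Subgroup G) : Prop where
  tt : t * t = 1
  zz : z * z = 1
  z1 : z ≠ 1
  comm : t * z = z * t
  pF : IsPGroup 2 F
  le : ∀ x ∈ F, x * z = z * x
  nor : ∀ g, g * z = z * g → ∀ x ∈ F, g * x * g⁻¹ ∈ F
  self : ∀ g, g * z = z * g → (∀ x ∈ F, g * x = x * g) → g ∈ F
  tF : t ∉ F
  /-- elementary abelian subgroups of `C_F(t)` normalised by `C_G(⟨t, z⟩)` are contained in `⟨z⟩` -/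
  el : ∀ B : Subgroup G, B ≤ F → (∀ b ∈ B, b * t = t * b) → (∀ a ∈ B, ∀ b ∈ B, a * b = b * a) →
    (∀ b ∈ B, b * b = 1) →
    (∀ n, n * t = t * n → n * z = z * n → ∀ b ∈ B, n * b * n⁻¹ ∈ B) → ∀ b ∈ B, b = 1 ∨ b = z

namespace Hyp

variable {t z : G} {F : Subgroup G}

/-- the goal -/
def Goal (h : Hyp t z F) : Prop :=
  ∃ lam : centralizer ({z} : Set G) →* ℤˣ, lam ⟨t, mem_centralizer_singleton_iff.2 h.comm⟩ = -1

theorem z_mem (h : Hyp t z F) : z ∈ F := h.self z rfl fun x hx => (h.le x hx).symm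

/-- the `t`-fixed elements of an elementary abelian normal subgroup -/
theorem fixed (h : Hyp t z F) {W : Subgroup G} (hW : W ≤ F) (hab : ∀ a ∈ W, ∀ b ∈ W, a * b = b * a)
    (hsq : ∀ a ∈ W, a * a = 1)
    (hn : ∀ g, g * z = z * g → ∀ w ∈ W, g * w * g⁻¹ ∈ W) {w : G} (hw : w ∈ W) (hwt : w * t = t * w) :
    w = 1 ∨ w = z := by
  refine h.el (W ⊓ centralizer ({t} : Set G)) (fun x hx => hW hx.1)
    (fun b hb => mem_centralizer_singleton_iff.1 hb.2) (fun a ha b hb => hab a ha.1 b hb.1)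
    (fun b hb => hsq b hb.1) ?_ w ⟨hw, mem_centralizer_singleton_iff.2 hwt⟩
  rintro n hnt hnz b ⟨hb1, hb2⟩
  have h1 : Commute n t := hnt
  have h2 : Commute b t := mem_centralizer_singleton_iff.1 hb2
  exact ⟨hn n hnz b hb1, mem_centralizer_singleton_iff.2 ((h1.mul_left h2).mul_left h1.inv_left)⟩

/-- elementary abelian normal subgroups -/
theorem elem (h : Hyp t z F) {W : Subgroup G} (hW : W ≤ F) (hab : ∀ a ∈ W, ∀ b ∈ W, a * b = b * a)
    (hsq : ∀ a ∈ W, a * a = 1)
    (hn : ∀ g, g * z = z * g → ∀ w ∈ W, g * w * g⁻¹ ∈ W) {w : G} (hw : w ∈ W) :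
    (w = 1 ∨ w = z) ∨ h.Goal := by
  by_cases hwz : w = 1 ∨ w = z
  · exact Or.inl hwz
  right
  have key : ∀ b ∈ W, ¬ (b = 1 ∨ b = z) → t * b * t⁻¹ = b * z := by
    intro b hb hbz
    have h1 : t * b * t⁻¹ ∈ W := hn t h.comm b hb
    have h2 : b * (t * b * t⁻¹) ∈ W := W.mul_mem hb h1
    have h3 : b * (t * b * t⁻¹) * t = t * (b * (t * b * t⁻¹)) := by
      have e0 : t * (t * b * t⁻¹) * t⁻¹ = b := by
        calc t * (t * b * t⁻¹) * t⁻¹ = (t * t) * b * (t * t)⁻¹ := by group
          _ = b := by rw [h.tt]; group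
      have e1 : t * (b * (t * b * t⁻¹)) * t⁻¹ = b * (t * b * t⁻¹) := by
        calc t * (b * (t * b * t⁻¹)) * t⁻¹ = (t * b * t⁻¹) * (t * (t * b * t⁻¹) * t⁻¹) := by group
          _ = (t * b * t⁻¹) * b := by rw [e0]
          _ = b * (t * b * t⁻¹) := (hab b hb _ h1).symm
      rw [mul_inv_eq_iff_eq_mul] at e1
      exact e1.symm
    rcases h.fixed hW hab hsq hn h2 h3 with h4 | h4
    · exfalso
      apply hbz
      have h5 : t * b * t⁻¹ = b := by
        have : t * b * t⁻¹ = b⁻¹ := (inv_eq_of_mul_eq_one_right h4).symm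
        rw [this, inv_eq_of_mul_eq_one_left (hsq b hb)]
      refine h.fixed hW hab hsq hn hb ?_
      rw [mul_inv_eq_iff_eq_mul] at h5
      exact h5.symm
    · calc t * b * t⁻¹ = b * (b * (t * b * t⁻¹)) := by rw [← mul_assoc, hsq b hb, one_mul]
        _ = b * z := by rw [h4]
  have hcomm : w * z = z * w := h.le w (hW hw)
  refine Lam.lam_of_u h.zz h.z1 h.comm hcomm ?_ (key w hw hwz)
  intro g hg
  have hg1 : g * w * g⁻¹ ∈ W := hn g hg w hw
  have hg2 : ¬ (g * w * g⁻¹ = 1 ∨ g * w * g⁻¹ = z) := by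
    rintro (h1 | h1)
    · exact hwz (Or.inl (conj_eq_one_iff.1 h1))
    · apply hwz; right
      calc w = g⁻¹ * (g * w * g⁻¹) * g := by group
        _ = g⁻¹ * (z * g) := by rw [h1]; group
        _ = z := by rw [← hg]; group
  have hk := key _ hg1 hg2
  have hk2 := key w hw hwz
  have h3 : w * (g * w * g⁻¹) ∈ W := W.mul_mem hw hg1
  have h4 : w * (g * w * g⁻¹) * t = t * (w * (g * w * g⁻¹)) := by
    have hz : z * (g * w * g⁻¹) = (g * w * g⁻¹) * z := (h.le _ (hW hg1)).symm
    have : t * (w * (g * w * g⁻¹)) * t⁻¹ = w * (g * w * g⁻¹) := by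
      calc t * (w * (g * w * g⁻¹)) * t⁻¹ = (t * w * t⁻¹) * (t * (g * w * g⁻¹) * t⁻¹) := by group
        _ = w * z * ((g * w * g⁻¹) * z) := by rw [hk, hk2]
        _ = w * (z * (g * w * g⁻¹)) * z := by group
        _ = w * (g * w * g⁻¹) * (z * z) := by rw [hz]; group
        _ = w * (g * w * g⁻¹) := by rw [h.zz, mul_one]
    rw [mul_inv_eq_iff_eq_mul] at this
    exact this.symm
  rcases h.fixed hW hab hsq hn h3 h4 with h5 | h5
  · left
    calc g * w * g⁻¹ = w * (w * (g * w * g⁻¹)) := by rw [← mul_assoc, hsq w hw, one_mul]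
      _ = w := by rw [h5, mul_one]
  · right
    calc g * w * g⁻¹ = w * (w * (g * w * g⁻¹)) := by rw [← mul_assoc, hsq w hw, one_mul]
      _ = w * z := by rw [h5]

/-- involutions of abelian normal subgroups -/
theorem invol (h : Hyp t z F) (hg : ¬ h.Goal) {W : Subgroup G} (hW : W ≤ F)
    (hab : ∀ a ∈ W, ∀ b ∈ W, a * b = b * a)
    (hn : ∀ g, g * z = z * g → ∀ w ∈ W, g * w * g⁻¹ ∈ W) {a : G} (ha : a ∈ W) (haa : a * a = 1) :
    a = 1 ∨ a = z := by
  set W1 : Subgroup G :=
    { carrier := {x | x ∈ W ∧ x * x = 1}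
      one_mem' := ⟨W.one_mem, one_mul 1⟩
      mul_mem' := by
        rintro x y ⟨hx, hx2⟩ ⟨hy, hy2⟩
        refine ⟨W.mul_mem hx hy, ?_⟩
        calc x * y * (x * y) = x * (y * x) * y := by group
          _ = x * x * (y * y) := by rw [hab y hy x hx]; group
          _ = 1 := by rw [hx2, hy2, one_mul]
      inv_mem' := by
        rintro x ⟨hx, hx2⟩
        refine ⟨W.inv_mem hx, ?_⟩
        rw [← mul_inv_rev, hx2, inv_one] } with hW1
  have h1 : ∀ x, x ∈ W1 ↔ x ∈ W ∧ x * x = 1 := fun x => Iff.rfl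
  refine ((h.elem (W := W1) (fun x hx => hW ((h1 x).1 hx).1)
    (fun x hx y hy => hab x ((h1 x).1 hx).1 y ((h1 y).1 hy).1) (fun x hx => ((h1 x).1 hx).2) ?_
    ((h1 a).2 ⟨ha, haa⟩)).resolve_right hg)
  intro g hgz x hx
  rw [h1] at hx ⊢
  refine ⟨hn g hgz x hx.1, ?_⟩
  calc g * x * g⁻¹ * (g * x * g⁻¹) = g * (x * x) * g⁻¹ := by group
    _ = 1 := by rw [hx.2]; group

/-- conjugation by an element of `C(z)` on `F` -/
def conjEquiv (h : Hyp t z F) (g : G) (hg : g * z = z * g) : F ≃* F where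
  toFun x := ⟨g * x * g⁻¹, h.nor g hg x x.2⟩
  invFun x := ⟨g⁻¹ * x * g, by
    have hg' : g⁻¹ * z = z * g⁻¹ := (Commute.inv_left (show Commute g z from hg)).eq
    have := h.nor g⁻¹ hg' x x.2
    rwa [inv_inv] at this⟩
  left_inv x := by
    apply Subtype.ext
    show g⁻¹ * (g * x * g⁻¹) * g = x
    group
  right_inv x := by
    apply Subtype.ext
    show g * (g⁻¹ * x * g) * g⁻¹ = x
    group
  map_mul' x y := by
    apply Subtype.ext
    show g * (x * y) * g⁻¹ = g * x * g⁻¹ * (g * y * g⁻¹)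
    group

/-- `F` is of symplectic type -/
theorem symplectic [Finite G] (h : Hyp t z F) (hg : ¬ h.Goal) : Cfsg.IsOfSymplecticType F := by
  refine ⟨h.pF, ?_⟩
  intro A hA hcom
  have hab : ∀ a ∈ A.map F.subtype, ∀ b ∈ A.map F.subtype, a * b = b * a := by
    rintro _ ⟨a, ha, rfl⟩ _ ⟨b, hb, rfl⟩
    have := hcom.is_comm.comm (⟨a, ha⟩ : A) ⟨b, hb⟩
    exact congrArg (fun x : A => ((x : F) : G)) this
  have hn : ∀ g, g * z = z * g → ∀ w ∈ A.map F.subtype, g * w * g⁻¹ ∈ A.map F.subtype := by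
    rintro g hgz _ ⟨x, hx, rfl⟩
    refine ⟨h.conjEquiv g hgz x, ?_, rfl⟩
    have := hA.fixed (h.conjEquiv g hgz)
    have h2 : x ∈ A.comap (h.conjEquiv g hgz).toMonoidHom := by rw [this]; exact hx
    exact h2
  let iA : CommGroup A := { (inferInstance : Group A) with mul_comm := hcom.is_comm.comm }
  have hinv : ∀ a : A, a * a = 1 → ((a : F) : G) = 1 ∨ ((a : F) : G) = z := by
    intro a ha
    refine h.invol hg (W := A.map F.subtype) ?_ hab hn ⟨a, a.2, rfl⟩ ?_
    · rintro _ ⟨x, -, rfl⟩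
      exact x.2
    · exact congrArg (fun x : A => ((x : F) : G)) ha
  by_cases hex : ∃ c : A, ((c : F) : G) = z
  · obtain ⟨c, hc⟩ := hex
    refine isCyclic_of_sq (h.pF.to_subgroup A) c ?_
    intro a ha
    rcases hinv a ha with h1 | h1
    · exact Or.inl (Subtype.ext (Subtype.ext h1))
    · exact Or.inr (Subtype.ext (Subtype.ext (h1.trans hc.symm)))
  · refine isCyclic_of_sq (h.pF.to_subgroup A) 1 ?_
    intro a ha
    rcases hinv a ha with h1 | h1
    · exact Or.inl (Subtype.ext (Subtype.ext h1))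
    · exact absurd ⟨a, h1⟩ hex

end Hyp

/-- four elements -/
theorem four {V : Type*} [AddCommGroup V] [Module (ZMod 2) V] {M : Submodule (ZMod 2) V}
    (hM : Nat.card M = 4) {a b : V} (ha : a ∈ M)
    (hb : b ∈ M) (ha0 : a ≠ 0) (hb0 : b ≠ 0) (hab : a + b ≠ 0) :
    ∀ d ∈ M, d = 0 ∨ d = a ∨ d = b ∨ d = a + b := by
  have : Finite M := by
    apply Nat.finite_of_card_ne_zero
    rw [hM]; norm_num
  let f : ZMod 2 × ZMod 2 → M := fun p => p.1 • ⟨a, ha⟩ + p.2 • ⟨b, hb⟩
  have hinj : Function.Injective f := by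
    have key : ∀ p : ZMod 2 × ZMod 2, (p.1 • a + p.2 • b = 0) → p = 0 := by
      rintro ⟨i, j⟩ h1
      rcases zmod_two i with rfl | rfl <;> rcases zmod_two j with rfl | rfl
      · rfl
      · rw [zero_smul, zero_add, one_smul] at h1; exact absurd h1 hb0
      · rw [zero_smul, add_zero, one_smul] at h1; exact absurd h1 ha0
      · rw [one_smul, one_smul] at h1; exact absurd h1 hab
    intro p q hpq
    have h1 : p.1 • a + p.2 • b = q.1 • a + q.2 • b := congrArg Subtype.val hpq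
    have h2 : (p - q).1 • a + (p - q).2 • b = 0 := by
      rw [Prod.fst_sub, Prod.snd_sub, sub_smul, sub_smul]
      rw [← sub_eq_zero] at h1
      rw [← h1]; abel
    exact sub_eq_zero.1 (key _ h2)
  have hcard : Nat.card (ZMod 2 × ZMod 2) = Nat.card M := by
    rw [Nat.card_prod, Nat.card_zmod, hM]
  have hbij : Function.Bijective f := (Nat.bijective_iff_injective_and_card f).2 ⟨hinj, hcard⟩
  intro d hd
  obtain ⟨⟨i, j⟩, hij⟩ := hbij.2 ⟨d, hd⟩
  have h1 : i • a + j • b = d := congrArg Subtype.val hij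
  rcases zmod_two i with rfl | rfl <;> rcases zmod_two j with rfl | rfl
  · left; rw [← h1]; simp
  · right; right; left; rw [← h1]; simp
  · right; left; rw [← h1]; simp
  · right; right; right; rw [← h1]; simp

/-! ### the A × B argument -/

/-- `F = F*(C(s))` is a 2-group -/
structure FS (s : G) (F : Subgroup G) : Prop where
  pF : IsPGroup 2 F
  norF : ∀ g, g * s = s * g → ∀ x ∈ F, g * x * g⁻¹ ∈ F
  selfF : ∀ g, g * s = s * g → (∀ x ∈ F, g * x = x * g) → g ∈ F

namespace FS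

variable {t s : G} {F : Subgroup G}

theorem conj (h : FS s F) (g : G) : FS (g * s * g⁻¹) (F.map (MulAut.conj g).toMonoidHom) where
  pF := h.pF.map _
  norF := by
    rintro c hc _ ⟨x, hx, rfl⟩
    refine ⟨(g⁻¹ * c * g) * x * (g⁻¹ * c * g)⁻¹, h.norF _ ?_ x hx, ?_⟩
    · calc g⁻¹ * c * g * s = g⁻¹ * (c * (g * s * g⁻¹)) * g := by group
        _ = g⁻¹ * (g * s * g⁻¹ * c) * g := by rw [hc]
        _ = s * (g⁻¹ * c * g) := by group
    · show g * ((g⁻¹ * c * g) * x * (g⁻¹ * c * g)⁻¹) * g⁻¹ = c * (g * x * g⁻¹) * c⁻¹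
      group
  selfF := by
    intro c hc hx
    refine ⟨g⁻¹ * c * g, h.selfF _ ?_ ?_, ?_⟩
    · calc g⁻¹ * c * g * s = g⁻¹ * (c * (g * s * g⁻¹)) * g := by group
        _ = g⁻¹ * (g * s * g⁻¹ * c) * g := by rw [hc]
        _ = s * (g⁻¹ * c * g) := by group
    · intro x hxF
      have h1 : c * (g * x * g⁻¹) = g * x * g⁻¹ * c := hx _ ⟨x, hxF, rfl⟩
      calc g⁻¹ * c * g * x = g⁻¹ * (c * (g * x * g⁻¹)) * g := by group
        _ = g⁻¹ * (g * x * g⁻¹ * c) * g := by rw [h1]
        _ = x * (g⁻¹ * c * g) := by group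
    · show g * (g⁻¹ * c * g) * g⁻¹ = c
      group

/-- a perfect subgroup of `C(⟨t, s⟩)` centralising `C_F(t)` is trivial -/
theorem eq_bot [Finite G] (h : FS s F) (tt : t * t = 1) (comm : t * s = s * t) {P : Subgroup G}
    (Pt : ∀ p ∈ P, p * t = t * p) (Pz : ∀ p ∈ P, p * s = s * p) (perf : ⁅P, P⁆ = P)
    (hcen : ∀ x ∈ F, x * t = t * x → ∀ p ∈ P, x * p = p * x) : P = ⊥ := by
  -- odd elements of `P` are trivial
  have hodd : ∀ p ∈ P, (orderOf p).Coprime 2 → p = 1 := by
    intro p hp hpo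
    have h2 : zpowers p ≤ centralizer (F : Set G) := by
      refine Cfsg.Agent.S0028.result 2 (zpowers t) (zpowers p) F ?_ ?_ h.pF ?_ ?_ ?_ ?_
      · rintro ⟨a, ha⟩
        obtain ⟨i, rfl⟩ := mem_zpowers_iff.1 ha
        refine ⟨1, Subtype.ext ?_⟩
        show (t ^ i) ^ (2 ^ 1) = 1
        rw [pow_one, pow_two, ← zpow_add, ← two_mul, zpow_mul]
        have : t ^ (2 : ℤ) = 1 := by
          rw [show (2 : ℤ) = 1 + 1 by norm_num, zpow_add, zpow_one, tt]
        rw [this, one_zpow]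
      · rw [Nat.card_zpowers]; exact hpo
      · rw [zpowers_le, mem_centralizer_iff]
        intro q hq
        obtain ⟨i, rfl⟩ := mem_zpowers_iff.1 hq
        exact ((show Commute p t from Pt p hp).zpow_left i).eq
      · rw [zpowers_le]
        rw [mem_normalizer_iff]
        intro y
        constructor
        · intro hy; exact h.norF t comm y hy
        · intro hy
          have := h.norF t comm _ hy
          have e : t * (t * y * t⁻¹) * t⁻¹ = y := by
            calc t * (t * y * t⁻¹) * t⁻¹ = (t * t) * y * (t * t)⁻¹ := by group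
              _ = y := by rw [tt]; group
          rwa [e] at this
      · rw [zpowers_le]
        have hpz := Pz p hp
        rw [mem_normalizer_iff]
        intro y
        constructor
        · intro hy; exact h.norF p hpz y hy
        · intro hy
          have hpz' : p⁻¹ * s = s * p⁻¹ := (Commute.inv_left (show Commute p s from hpz)).eq
          have := h.norF p⁻¹ hpz' _ hy
          have e : p⁻¹ * (p * y * p⁻¹) * p⁻¹⁻¹ = y := by group
          rwa [e] at this
      · rintro x ⟨hx, hxt⟩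
        have hxt' : x * t = t * x := (mem_centralizer_iff.1 hxt t (mem_zpowers t)).symm
        rw [mem_centralizer_iff]
        intro q hq
        have hqP : q ∈ P := (zpowers_le.2 hp) hq
        exact (hcen x hx hxt' q hqP).symm
    have h3 : p ∈ F := by
      refine h.selfF p (Pz p hp) fun x hx => ?_
      exact (mem_centralizer_iff.1 (h2 (mem_zpowers p)) x hx).symm
    obtain ⟨k, hk⟩ := h.pF ⟨p, h3⟩
    have h4 : p ^ 2 ^ k = 1 := congrArg Subtype.val hk
    have h5 : orderOf p ∣ 2 ^ k := orderOf_dvd_of_pow_eq_one h4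
    have h6 : orderOf p = 1 := Nat.Coprime.eq_one_of_dvd (hpo.pow_right k) h5
    exact orderOf_eq_one_iff.1 h6
  have hP2 : IsPGroup 2 P := by
    rw [IsPGroup.iff_card]
    refine ⟨(Nat.card P).primeFactorsList.length, ?_⟩
    refine Nat.eq_prime_pow_of_unique_prime_dvd Nat.card_pos.ne' ?_
    intro q hq hqd
    by_contra hne
    have : Fact q.Prime := ⟨hq⟩
    obtain ⟨y, hy⟩ := exists_prime_orderOf_dvd_card' q hqd
    have h4 : (orderOf (y : G)).Coprime 2 := by
      rw [Subgroup.orderOf_coe, hy]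
      exact (Nat.coprime_primes hq Nat.prime_two).2 hne
    have h5 : y = 1 := Subtype.ext (hodd y y.2 h4)
    rw [h5, orderOf_one] at hy
    exact hq.one_lt.ne hy
  exact TypeE.not_two_of_perfect perf hP2

/-- no perfect `L` with `O₂(L) = 1` in `C(⟨t, s⟩)` -/
theorem false_of_L [Finite G] (h : FS s F) (tt : t * t = 1) (comm : t * s = s * t) {L : Subgroup G}
    (Lt : ∀ p ∈ L, p * t = t * p) (Ls : ∀ p ∈ L, p * s = s * p) (perf : ⁅L, L⁆ = L) (L1 : L ≠ ⊥)
    (Fs : ∀ x ∈ F, x * s = s * x)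
    (norL : ∀ n, n * t = t * n → n * s = s * n → ∀ l ∈ L, n * l * n⁻¹ ∈ L)
    (core : ∀ Y ≤ L, IsPGroup 2 Y → (∀ l ∈ L, ∀ y ∈ Y, l * y * l⁻¹ ∈ Y) → Y = ⊥) : False := by
  apply L1
  refine h.eq_bot tt comm Lt Ls perf ?_
  intro x hx hxt l hl
  have hxs := Fs x hx
  have hbot : F ⊓ L = ⊥ := by
    refine core (F ⊓ L) inf_le_right (h.pF.to_le inf_le_left) ?_
    intro l hl y hy
    exact ⟨h.norF l (Ls l hl) y hy.1, L.mul_mem (L.mul_mem hl hy.2) (L.inv_mem hl)⟩
  have h1 : x * l * x⁻¹ * l⁻¹ ∈ F ⊓ L := by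
    refine ⟨?_, L.mul_mem (norL x hxt hxs l hl) (L.inv_mem hl)⟩
    have h2 : l * x⁻¹ * l⁻¹ ∈ F := h.norF l (Ls l hl) _ (F.inv_mem hx)
    have : x * l * x⁻¹ * l⁻¹ = x * (l * x⁻¹ * l⁻¹) := by group
    rw [this]
    exact F.mul_mem hx h2
  rw [hbot, mem_bot, mul_inv_eq_one, mul_inv_eq_iff_eq_mul] at h1
  exact h1

end FS

/-! ### the data of `HS` -/

/-- The data for `K = HS`. -/
structure Data (t z u : G) (P R F : Subgroup G) : Prop where
  tt : t * t = 1
  zz : z * z = 1
  z1 : z ≠ 1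
  comm : t * z = z * t
  /-- `F = O₂(H) = F*(H)`, `H = C_G(z)` -/
  pF : IsPGroup 2 F
  leF : ∀ x ∈ F, x * z = z * x
  norF : ∀ g, g * z = z * g → ∀ x ∈ F, g * x * g⁻¹ ∈ F
  selfF : ∀ g, g * z = z * g → (∀ x ∈ F, g * x = x * g) → g ∈ F
  /-- `P ≤ N = C_G(⟨t, z⟩)` is perfect and normal in `N` -/
  Pt : ∀ p ∈ P, p * t = t * p
  Pz : ∀ p ∈ P, p * z = z * p
  norP : ∀ n, n * t = t * n → n * z = z * n → ∀ p ∈ P, n * p * n⁻¹ ∈ P
  perf : ⁅P, P⁆ = P
  RP : R ≤ P
  uR : u ∈ R
  uu : u * u = z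
  uP : ∀ p ∈ P, p * u = u * p
  /-- 2-subgroups of `P` normal in `N` are contained in `R` -/
  core : ∀ Y ≤ P, IsPGroup 2 Y → (∀ n, n * t = t * n → n * z = z * n → ∀ y ∈ Y, n * y * n⁻¹ ∈ Y) → Y ≤ R
  /-- the `N`-invariant subgroups of `R` -/
  irr : ∀ Y ≤ R, (∀ n, n * t = t * n → n * z = z * n → ∀ y ∈ Y, n * y * n⁻¹ ∈ Y) →
    (∀ y ∈ Y, y = 1 ∨ y = u ∨ y = z ∨ y = u * z) ∨ Y = R
  /-- the centre of `R` -/
  cR : ∀ x ∈ R, (∀ y ∈ R, x * y = y * x) → x = 1 ∨ x = u ∨ x = z ∨ x = u * z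
  cardR : Nat.card R = 64
  /-- 2-elements of `N` trivial on `P / R` are in `⟨t⟩ R` or invert `u` -/
  out : ∀ n, IsPGroup 2 (zpowers n) → n * t = t * n → n * z = z * n → (∀ p ∈ P, n * p * n⁻¹ * p⁻¹ ∈ R) →
    n ∈ R ∨ t * n ∈ R ∨ n * u * n⁻¹ = u⁻¹

namespace Data

variable {t z u : G} {P R F : Subgroup G}

theorem z_mem (D : Data t z u P R F) : z ∈ F := D.selfF z rfl fun x hx => (D.leF x hx).symm

theorem u_mem_P (D : Data t z u P R F) : u ∈ P := D.RP D.uR

theorem zP (D : Data t z u P R F) : z ∈ P := by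
  rw [← D.uu]; exact P.mul_mem D.u_mem_P D.u_mem_P

theorem zR (D : Data t z u P R F) : z ∈ R := by
  rw [← D.uu]; exact R.mul_mem D.uR D.uR

theorem u_ne_inv (D : Data t z u P R F) : u ≠ u⁻¹ := by
  intro h
  apply D.z1
  rw [← D.uu]
  nth_rewrite 2 [h]
  exact mul_inv_cancel u

/-- the four elements of `⟨u⟩` commute with `P` -/
theorem four_comm (D : Data t z u P R F) {y : G} (hy : y = 1 ∨ y = u ∨ y = z ∨ y = u * z) :
    ∀ p ∈ P, p * y = y * p := by
  intro p hp
  rcases hy with rfl | rfl | rfl | rfl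
  · simp
  · exact D.uP p hp
  · exact D.Pz p hp
  · exact ((show Commute p u from D.uP p hp).mul_right (show Commute p z from D.Pz p hp)).eq

/-- `R` is not abelian -/
theorem nab (D : Data t z u P R F) : ∃ a ∈ R, ∃ b ∈ R, a * b ≠ b * a := by
  classical
  by_contra hcon
  push Not at hcon
  have h1 : (R : Set G) ⊆ {1, u, z, u * z} := by
    intro x hx
    rcases D.cR x hx (fun y hy => hcon x hx y hy) with h | h | h | h <;> simp [h]
  have h2 : Nat.card R ≤ 4 := by
    have h3 : Nat.card R = Set.ncard (R : Set G) := Nat.card_coe_set_eq _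
    rw [h3]
    refine (Set.ncard_le_ncard h1 (Set.toFinite _)).trans ?_
    refine (Set.ncard_insert_le _ _).trans ?_
    have := (Set.ncard_insert_le u {z, u * z})
    have h4 := (Set.ncard_insert_le z {u * z})
    rw [Set.ncard_singleton] at h4
    omega
  rw [D.cardR] at h2
  omega

theorem fs (D : Data t z u P R F) : FS z F := ⟨D.pF, D.norF, D.selfF⟩

/-- `t ∉ O₂(C(z))` by the y-trick -/
theorem t_notMem (D : Data t z u P R F) {M : Subgroup G}
    (norM : ∀ n, n * t = t * n → n * z = z * n → ∀ p ∈ M, n * p * n⁻¹ ∈ M)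
    (coreM : ∀ Y ≤ M, IsPGroup 2 Y → (∀ n, n * t = t * n → n * z = z * n → ∀ y ∈ Y, n * y * n⁻¹ ∈ Y) → Y ≤ R)
    {h z₁ : G} (hz : h * z = z * h) (ht : h * t * h⁻¹ = t * z₁)
    (hP : z₁ ∈ M) (hR : z₁ ∉ R) : t ∉ F := by
  intro htF
  apply hR
  have h1 : z₁ ∈ F := by
    have h2 : t * (h * t * h⁻¹) ∈ F := F.mul_mem htF (D.norF h hz t htF)
    rw [ht, ← mul_assoc, D.tt, one_mul] at h2
    exact h2
  refine coreM (F ⊓ M) inf_le_right (D.pF.to_le inf_le_left) ?_ ⟨h1, hP⟩
  intro n hnt hnz y hy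
  exact ⟨D.norF n hnz y hy.1, norM n hnt hnz y hy.2⟩

/-- `[C_F(t), P] ≤ F ∩ P ∩ C(t)` -/
theorem comm_mem (D : Data t z u P R F) {x : G} (hx : x ∈ F) (hxt : x * t = t * x) {p : G} (hp : p ∈ P) :
    x * p * x⁻¹ * p⁻¹ ∈ F ⊓ centralizer ({t} : Set G) ⊓ P := by
  have hxz : x * z = z * x := D.leF x hx
  have h1 : x * p * x⁻¹ ∈ P := D.norP x hxt hxz p hp
  have h2 : p * x⁻¹ * p⁻¹ ∈ F := D.norF p (D.Pz p hp) _ (F.inv_mem hx)
  refine ⟨⟨?_, ?_⟩, P.mul_mem h1 (P.inv_mem hp)⟩
  · have : x * p * x⁻¹ * p⁻¹ = x * (p * x⁻¹ * p⁻¹) := by group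
    rw [this]
    exact F.mul_mem hx h2
  · have c1 : Commute x t := hxt
    have c2 : Commute p t := D.Pt p hp
    exact mem_centralizer_singleton_iff.2 (((c1.mul_left c2).mul_left c1.inv_left).mul_left c2.inv_left)

theorem inv_fix (D : Data t z u P R F) {Y : Subgroup G} (hY : Y = F ⊓ centralizer ({t} : Set G) ⊓ P) :
    ∀ n, n * t = t * n → n * z = z * n → ∀ y ∈ Y, n * y * n⁻¹ ∈ Y := by
  subst hY
  intro n hnt hnz y hy
  have c1 : Commute n t := hnt
  have c2 : Commute y t := mem_centralizer_singleton_iff.1 hy.1.2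
  exact ⟨⟨D.norF n hnz y hy.1.1, mem_centralizer_singleton_iff.2 ((c1.mul_left c2).mul_left c1.inv_left)⟩,
    D.norP n hnt hnz y hy.2⟩

/-- if `[x, P]` is central in `P`, then `P` centralises `x` -/
theorem cent_of_comm (D : Data t z u P R F) {x : G}
    (hc : ∀ p ∈ P, ∀ q ∈ P, (x * p * x⁻¹ * p⁻¹) * q = q * (x * p * x⁻¹ * p⁻¹))
    (hP : ∀ p ∈ P, x * p * x⁻¹ ∈ P) : ∀ p ∈ P, x * p = p * x := by
  have hle : P ≤ centralizer ({x} : Set G) := by
    calc P = ⁅P, P⁆ := D.perf.symm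
      _ ≤ centralizer ({x} : Set G) := by
        rw [commutator_le]
        intro p hp q hq
        rw [mem_centralizer_singleton_iff, commutatorElement_def]
        obtain ⟨c, hc1⟩ : ∃ c, c = x * p * x⁻¹ * p⁻¹ := ⟨_, rfl⟩
        obtain ⟨d, hd1⟩ : ∃ d, d = x * q * x⁻¹ * q⁻¹ := ⟨_, rfl⟩
        have hcP : c ∈ P := by rw [hc1]; exact P.mul_mem (hP p hp) (P.inv_mem hp)
        have hdP : d ∈ P := by rw [hd1]; exact P.mul_mem (hP q hq) (P.inv_mem hq)
        have hcc : ∀ r ∈ P, Commute c r := by intro r hr; rw [hc1]; exact hc p hp r hr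
        have hdc : ∀ r ∈ P, Commute d r := by intro r hr; rw [hd1]; exact hc q hq r hr
        have hc2 : x * p * x⁻¹ = c * p := by rw [hc1]; group
        have hd2 : x * q * x⁻¹ = d * q := by rw [hd1]; group
        have e3 : x * (p * q * p⁻¹ * q⁻¹) * x⁻¹ = p * q * p⁻¹ * q⁻¹ := by
          have C1 : Commute p c := (hcc p hp).symm
          have C2 : Commute q c := (hcc q hq).symm
          have C3 : Commute p d := (hdc p hp).symm
          have C4 : Commute q d := (hdc q hq).symm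
          have hcd : c * d = d * c := (hcc d hdP).eq
          calc x * (p * q * p⁻¹ * q⁻¹) * x⁻¹
              = (x * p * x⁻¹) * (x * q * x⁻¹) * (x * p * x⁻¹)⁻¹ * (x * q * x⁻¹)⁻¹ := by group
            _ = (c * p) * (d * q) * (c * p)⁻¹ * (d * q)⁻¹ := by rw [hc2, hd2]
            _ = c * (p * d) * q * p⁻¹ * c⁻¹ * q⁻¹ * d⁻¹ := by group
            _ = c * (d * p) * q * p⁻¹ * c⁻¹ * q⁻¹ * d⁻¹ := by rw [C3.eq]
            _ = (c * d) * (p * q * p⁻¹ * (c⁻¹ * q⁻¹)) * d⁻¹ := by group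
            _ = (c * d) * (p * q * p⁻¹ * (q⁻¹ * c⁻¹)) * d⁻¹ := by rw [(C2.inv_inv).eq]
            _ = (c * d) * ((p * q * p⁻¹ * q⁻¹) * (c⁻¹ * d⁻¹)) := by group
            _ = (c * d) * ((c⁻¹ * d⁻¹) * (p * q * p⁻¹ * q⁻¹)) := by
                have C5 : Commute (p * q * p⁻¹ * q⁻¹) c :=
                  ((C1.mul_left C2).mul_left C1.inv_left).mul_left C2.inv_left
                have C6 : Commute (p * q * p⁻¹ * q⁻¹) d :=
                  ((C3.mul_left C4).mul_left C3.inv_left).mul_left C4.inv_left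
                rw [((C5.inv_right).mul_right C6.inv_right).eq]
            _ = c * d * (d * c)⁻¹ * (p * q * p⁻¹ * q⁻¹) := by group
            _ = p * q * p⁻¹ * q⁻¹ := by rw [hcd]; group
        rw [mul_inv_eq_iff_eq_mul] at e3
        exact e3.symm
  intro p hp
  exact (mem_centralizer_singleton_iff.1 (hle hp)).symm

/-- `C_F(t) ∩ P = R` -/
theorem fix_eq [Finite G] (D : Data t z u P R F) : F ⊓ centralizer ({t} : Set G) ⊓ P = R := by
  set Y : Subgroup G := F ⊓ centralizer ({t} : Set G) ⊓ P with hY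
  have hYR : Y ≤ R := D.core Y inf_le_right (D.pF.to_le (inf_le_left.trans inf_le_left)) (D.inv_fix hY)
  rcases D.irr Y hYR (D.inv_fix hY) with h1 | h1
  swap
  · exact h1
  exfalso
  -- `P` centralises `C_F(t)`
  have hcen : ∀ x ∈ F, x * t = t * x → ∀ p ∈ P, x * p = p * x := by
    intro x hx hxt
    refine D.cent_of_comm ?_ (fun p hp => D.norP x hxt (D.leF x hx) p hp)
    intro p hp q hq
    exact (D.four_comm (h1 _ (D.comm_mem hx hxt hp)) q hq).symm
  have hbot := D.fs.eq_bot D.tt D.comm D.Pt D.Pz D.perf hcen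
  have hz := D.zP
  rw [hbot, mem_bot] at hz
  exact D.z1 hz

theorem R_le_F [Finite G] (D : Data t z u P R F) : R ≤ F := fun x hx => by
  rw [← D.fix_eq] at hx; exact hx.1.1

theorem R_comm (D : Data t z u P R F) {x : G} (hx : x ∈ R) : x * t = t * x := D.Pt x (D.RP hx)

/-- elements of `C_F(t)` are in `R` or invert `u` -/
theorem cases_of_mem [Finite G] (D : Data t z u P R F) (ht : t ∉ F) {x : G} (hx : x ∈ F)
    (hxt : x * t = t * x) : x ∈ R ∨ x * u * x⁻¹ = u⁻¹ := by
  have hfix := D.fix_eq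
  rcases D.out x (D.pF.to_le (zpowers_le.2 hx)) hxt (D.leF x hx) (fun p hp => by rw [← hfix]; exact D.comm_mem hx hxt hp) with h1 | h1 | h1
  · exact Or.inl h1
  · exfalso
    apply ht
    have h2 : t * x ∈ F := D.R_le_F h1
    have := F.mul_mem h2 (F.inv_mem hx)
    rwa [mul_inv_cancel_right] at this
  · exact Or.inr h1

/-- abelian `N`-invariant subgroups of `C_F(t)` -/
theorem ab [Finite G] (D : Data t z u P R F) (ht : t ∉ F) (B : Subgroup G) (hBF : B ≤ F)
    (hBt : ∀ b ∈ B, b * t = t * b) (hBab : ∀ a ∈ B, ∀ b ∈ B, a * b = b * a)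
    (hBn : ∀ n, n * t = t * n → n * z = z * n → ∀ b ∈ B, n * b * n⁻¹ ∈ B) :
    ∀ b ∈ B, b = 1 ∨ b = u ∨ b = z ∨ b = u * z := by
  have hfix := D.fix_eq
  -- `B ∩ P ≤ ⟨u⟩`
  have hBP : ∀ b ∈ B, b ∈ P → b = 1 ∨ b = u ∨ b = z ∨ b = u * z := by
    intro b hb hbP
    have hle : B ⊓ P ≤ R := by
      rw [← hfix]
      intro x hx
      exact ⟨⟨hBF hx.1, mem_centralizer_singleton_iff.2 (hBt x hx.1)⟩, hx.2⟩
    have hbR : b ∈ B ⊓ P := ⟨hb, hbP⟩
    rcases D.irr (B ⊓ P) hle (fun n hnt hnz y hy => ⟨hBn n hnt hnz y hy.1, D.norP n hnt hnz y hy.2⟩) with h1 | h1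
    · exact h1 b hbR
    · exfalso
      obtain ⟨a, ha, c, hc, hac⟩ := D.nab
      rw [← h1] at ha hc
      exact hac (hBab a ha.1 c hc.1)
  intro b hb
  have hbz : b * z = z * b := D.leF b (hBF hb)
  have hnP : ∀ p ∈ P, b * p * b⁻¹ ∈ P := fun p hp => D.norP b (hBt b hb) hbz p hp
  have hcomm : ∀ p ∈ P, b * p * b⁻¹ * p⁻¹ = 1 ∨ b * p * b⁻¹ * p⁻¹ = u ∨ b * p * b⁻¹ * p⁻¹ = z ∨
      b * p * b⁻¹ * p⁻¹ = u * z := by
    intro p hp
    refine hBP _ ?_ (P.mul_mem (hnP p hp) (P.inv_mem hp))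
    have h2 : p * b⁻¹ * p⁻¹ ∈ B := hBn p (D.Pt p hp) (D.Pz p hp) _ (B.inv_mem hb)
    have : b * p * b⁻¹ * p⁻¹ = b * (p * b⁻¹ * p⁻¹) := by group
    rw [this]
    exact B.mul_mem hb h2
  have hcen : ∀ p ∈ P, b * p = p * b := by
    refine D.cent_of_comm ?_ hnP
    intro p hp q hq
    exact (D.four_comm (hcomm p hp) q hq).symm
  rcases D.cases_of_mem ht (hBF hb) (hBt b hb) with h1 | h1
  · exact hBP b hb (D.RP h1)
  · exfalso
    have h2 : b * u * b⁻¹ = u := by rw [hcen u D.u_mem_P]; group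
    exact D.u_ne_inv (h2.symm.trans h1)

/-- elementary abelian `N`-invariant subgroups of `C_F(t)` -/
theorem el [Finite G] (D : Data t z u P R F) (ht : t ∉ F) (B : Subgroup G) (hBF : B ≤ F)
    (hBt : ∀ b ∈ B, b * t = t * b) (hBab : ∀ a ∈ B, ∀ b ∈ B, a * b = b * a)
    (hsq : ∀ b ∈ B, b * b = 1)
    (hBn : ∀ n, n * t = t * n → n * z = z * n → ∀ b ∈ B, n * b * n⁻¹ ∈ B) :
    ∀ b ∈ B, b = 1 ∨ b = z := by
  intro b hb
  rcases D.ab ht B hBF hBt hBab hBn b hb with h2 | h2 | h2 | h2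
  · exact Or.inl h2
  · exfalso
    have := hsq b hb
    rw [h2, D.uu] at this
    exact D.z1 this
  · exact Or.inr h2
  · exfalso
    have h3 := hsq b hb
    have huz : u * z = z * u := by rw [← D.uu]; group
    have h4 : u * z * (u * z) = z := by
      calc u * z * (u * z) = u * (z * u) * z := by group
        _ = u * u * (z * z) := by rw [← huz]; group
        _ = z := by rw [D.uu, D.zz, mul_one]
    rw [h2, h4] at h3
    exact D.z1 h3

theorem hyp [Finite G] (D : Data t z u P R F) (ht : t ∉ F) : Hyp t z F :=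
  ⟨D.tt, D.zz, D.z1, D.comm, D.pF, D.leF, D.norF, D.selfF, ht, D.el ht⟩

/-- **(1)** `F` is of symplectic type -/
theorem symplectic [Finite G] (D : Data t z u P R F) (ht : t ∉ F)
    (TR : ∀ lam : centralizer ({z} : Set G) →* ℤˣ, lam ⟨t, mem_centralizer_singleton_iff.2 D.comm⟩ = 1) :
    Cfsg.IsOfSymplecticType F := by
  refine (D.hyp ht).symplectic ?_
  rintro ⟨lam, hl⟩
  rw [TR lam] at hl
  exact (by decide : (1 : ℤˣ) ≠ -1) hl

/-- **(2)** if `F` is extraspecial, then `dim V = 8`, `[V, t]` is 2-dimensional and contains `u` -/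
theorem rank_eq [Finite G] (D : Data t z u P R F) (ht : t ∉ F)
    (TR : ∀ lam : centralizer ({z} : Set G) →* ℤˣ, lam ⟨t, mem_centralizer_singleton_iff.2 D.comm⟩ = 1)
    (h : Large F z) :
    finrank (ZMod 2) h.V = 8 ∧
    finrank (ZMod 2) (LinearMap.range ((h.act ⟨t, mem_centralizer_singleton_iff.2 D.comm⟩).toLinearMap +
      (LinearMap.id : h.V →ₗ[ZMod 2] h.V))) = 2 ∧
    ∃ v, h.act ⟨t, mem_centralizer_singleton_iff.2 D.comm⟩ v + v = h.pr ⟨u, D.R_le_F D.uR⟩ := by
  classical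
  have hfin := finiteDim h
  set tc : centralizer ({z} : Set G) := ⟨t, mem_centralizer_singleton_iff.2 D.comm⟩ with htc
  have hdick : dick h tc = 1 := TR (dick h)
  -- nobody in `C_F(t)` inverts `u`
  have hX : ∀ x ∈ F, x * t = t * x → x ∈ R := by
    intro x0 hx0 hx0t
    rcases D.cases_of_mem ht hx0 hx0t with h0 | h0
    · exact h0
    exfalso
    have h1 : dick h tc = -1 := by
      refine Lam.dick_of_nondeg h tc D.tt ht ?_
      intro y hy hyt hyc
      have huF : u ∈ F := D.R_le_F D.uR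
      have hyu := hyc u huF (D.R_comm D.uR)
      have hyR : y ∈ R := by
        rcases D.cases_of_mem ht hy hyt with h2 | h2
        · exact h2
        · exfalso
          have h3 : y * u * y⁻¹ = u := by rw [hyu]; group
          exact D.u_ne_inv (h3.symm.trans h2)
      have hx0u : x0 * u ≠ u * x0 := by
        intro h3
        have h4 : x0 * u * x0⁻¹ = u := by rw [h3]; group
        exact D.u_ne_inv (h4.symm.trans h0)
      have hyx0 := hyc x0 hx0 hx0t
      rcases D.cR y hyR (fun w hw => hyc w (D.R_le_F hw) (D.R_comm hw)) with h3 | h3 | h3 | h3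
      · exact Or.inl h3
      · rw [h3] at hyx0
        exact absurd hyx0.symm hx0u
      · exact Or.inr h3
      · exfalso
        apply hx0u
        rw [h3] at hyx0
        have c1 : Commute x0 (u * z) := hyx0.symm
        have c2 : Commute x0 z := D.leF x0 hx0
        have c3 : Commute x0 (u * z * z) := c1.mul_right c2
        rw [mul_assoc, D.zz, mul_one] at c3
        exact c3.eq
    rw [hdick] at h1
    exact (by decide : (1 : ℤˣ) ≠ -1) h1
  -- the fixed space
  have hff : ∀ v, h.act tc (h.act tc v) = v := by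
    intro v
    have h1 : h.act (tc * tc) v = v := by
      have : tc * tc = 1 := Subtype.ext D.tt
      rw [this, map_one]; rfl
    rw [map_mul] at h1
    exact h1
  have hcomm1 : ∀ x : F, (x : G) * t = t * x → h.act tc (h.pr x) = h.pr x := by
    intro x hx
    rw [h.act_pr, h.pr_eq_pr, h.conjQ_coe]
    left
    show t * x * t⁻¹ = x
    rw [← hx]; group
  have hcases : ∀ x : F, h.act tc (h.pr x) = h.pr x → (x : G) * t = t * x ∨ (t : G) * x = x * z * t := by
    intro x hx
    rw [h.act_pr, h.pr_eq_pr, h.conjQ_coe] at hx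
    rcases hx with h1 | h1
    · left
      have h2 : t * x * t⁻¹ = x := h1
      rw [mul_inv_eq_iff_eq_mul] at h2
      exact h2.symm
    · right
      have h2 : t * x * t⁻¹ = x * z := h1
      rw [mul_inv_eq_iff_eq_mul] at h2
      exact h2
  -- the image `W` of `R`
  let W : Submodule (ZMod 2) h.V :=
    { carrier := {v | ∃ x : F, (x : G) ∈ R ∧ h.pr x = v}
      zero_mem' := ⟨1, R.one_mem, h.pr_one⟩
      add_mem' := by
        rintro _ _ ⟨x, hx, rfl⟩ ⟨y, hy, rfl⟩
        exact ⟨x * y, R.mul_mem hx hy, h.pr_mul x y⟩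
      smul_mem' := by
        rintro c _ ⟨x, hx, rfl⟩
        rcases zmod_two c with hc | hc
        · rw [hc, zero_smul]; exact ⟨1, R.one_mem, h.pr_one⟩
        · rw [hc, one_smul]; exact ⟨x, hx, rfl⟩ }
  have hmemW : ∀ v, v ∈ W ↔ ∃ x : F, (x : G) ∈ R ∧ h.pr x = v := fun v => Iff.rfl
  have hWfix : W ≤ fix (h.act tc) := by
    intro v hv
    obtain ⟨x, hx, rfl⟩ := (hmemW v).1 hv
    rw [mem_fix]
    exact hcomm1 x (D.R_comm hx)
  have hcardW : finrank (ZMod 2) W = 5 := by
    let ψ : R →* Multiplicative h.V :=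
      { toFun := fun x => Multiplicative.ofAdd (h.pr ⟨x, D.R_le_F x.2⟩)
        map_one' := congrArg Multiplicative.ofAdd h.pr_one
        map_mul' := fun x y => congrArg Multiplicative.ofAdd (h.pr_mul ⟨x, D.R_le_F x.2⟩ ⟨y, D.R_le_F y.2⟩) }
    have e1 : Nat.card R = Nat.card ψ.ker * Nat.card ψ.range := by
      have e := Nat.card_congr (QuotientGroup.quotientKerEquivRange ψ).toEquiv
      rw [← e, mul_comm]
      exact Subgroup.card_eq_card_quotient_mul_card_subgroup ψ.ker
    have e2 : Nat.card ψ.ker = 2 := by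
      have h1 : (ψ.ker : Set R) = {1, ⟨z, D.zR⟩} := by
        ext x
        have h2 : x ∈ ψ.ker ↔ h.pr ⟨x, D.R_le_F x.2⟩ = 0 := Iff.rfl
        rw [SetLike.mem_coe, h2, h.pr_eq_zero, Set.mem_insert_iff, Set.mem_singleton_iff]
        exact or_congr ⟨fun h5 => Subtype.ext h5, fun h5 => congrArg Subtype.val h5⟩
          ⟨fun h5 => Subtype.ext h5, fun h5 => congrArg Subtype.val h5⟩
      have h3 : Nat.card ψ.ker = Set.ncard (ψ.ker : Set R) := Nat.card_coe_set_eq _
      rw [h3, h1, Set.ncard_pair]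
      intro h4
      exact D.z1 (congrArg Subtype.val h4).symm
    have e3 : Nat.card ψ.range = Nat.card W := by
      refine Nat.card_congr ⟨fun y => ⟨Multiplicative.toAdd y.1, ?_⟩, fun v => ⟨Multiplicative.ofAdd v.1, ?_⟩,
        fun _ => rfl, fun _ => rfl⟩
      · obtain ⟨x, hx⟩ := y.2
        exact ⟨⟨x, D.R_le_F x.2⟩, x.2, congrArg Multiplicative.toAdd hx⟩
      · obtain ⟨x, hx, hv⟩ := v.2
        exact ⟨⟨x, hx⟩, congrArg Multiplicative.ofAdd hv⟩
    have e4 : Nat.card W = 2 ^ finrank (ZMod 2) W := by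
      have := Module.natCard_eq_pow_finrank (K := ZMod 2) (V := W)
      rwa [Nat.card_zmod] at this
    rw [D.cardR, e2, e3, e4] at e1
    have : 2 ^ finrank (ZMod 2) W = 2 ^ 5 := by omega
    exact Nat.pow_right_injective (le_refl 2) this
  -- sums of fixed vectors outside `W` are in `W`
  have hadd : ∀ v ∈ fix (h.act tc), ∀ w ∈ fix (h.act tc), v ∉ W → w ∉ W → v + w ∈ W := by
    intro v hv w hw hvW hwW
    obtain ⟨x, rfl⟩ := h.pr_surjective v
    obtain ⟨y, rfl⟩ := h.pr_surjective w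
    rw [mem_fix] at hv hw
    have hx2 := (hcases x hv).resolve_left fun h1 => hvW ⟨x, hX x x.2 h1, rfl⟩
    have hy2 := (hcases y hw).resolve_left fun h1 => hwW ⟨y, hX y y.2 h1, rfl⟩
    refine ⟨x * y, hX _ (x * y).2 ?_, h.pr_mul x y⟩
    have hyz : (y : G) * z = z * y := h.comm_z y y.2
    have e : (t : G) * (x * y) = x * y * t := by
      calc (t : G) * (x * y) = t * x * y := by group
        _ = x * z * (t * y) := by rw [hx2]; group
        _ = x * (z * y) * z * t := by rw [hy2]; group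
        _ = x * y * (z * z) * t := by rw [← hyz]; group
        _ = x * y * t := by rw [h.z_sq]; group
    exact e.symm
  have hfix6 : finrank (ZMod 2) (fix (h.act tc)) = 6 := by
    have h1 := finrank_le_succ W (fix (h.act tc)) hadd
    have h2 := Submodule.finrank_mono hWfix
    rw [hcardW] at h1 h2
    rcases (show finrank (ZMod 2) (fix (h.act tc)) = 5 ∨ finrank (ZMod 2) (fix (h.act tc)) = 6 by omega) with h3 | h3
    · exfalso
      rw [dick_apply, h3] at hdick
      exact absurd hdick (by decide)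
    · exact h3
  -- the commutator space
  set L : h.V →ₗ[ZMod 2] h.V := (h.act tc).toLinearMap + LinearMap.id with hL
  have hLv : ∀ v, L v = h.act tc v + v := fun v => rfl
  have hker : LinearMap.ker L = fix (h.act tc) := by
    ext v
    rw [LinearMap.mem_ker, mem_fix, hLv]
    constructor
    · intro h1
      calc h.act tc v = h.act tc v + (v + v) := by rw [h.add_self, add_zero]
        _ = v := by rw [← add_assoc, h1, zero_add]
    · intro h1
      rw [h1, h.add_self]
  have hDfix : ∀ d ∈ LinearMap.range L, d ∈ fix (h.act tc) := by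
    rintro _ ⟨v, rfl⟩
    rw [mem_fix, hLv, map_add, hff, add_comm]
  have hDperp : ∀ d ∈ LinearMap.range L, ∀ w ∈ fix (h.act tc), h.b d w = 0 := by
    rintro _ ⟨v, rfl⟩ w hw
    rw [mem_fix] at hw
    rw [hLv, map_add, LinearMap.add_apply]
    have h1 := h.b_act tc v w
    rw [hw] at h1
    rw [h1]
    rcases zmod_two (h.b v w) with h2 | h2 <;> rw [h2] <;> decide
  have huF : u ∈ F := D.R_le_F D.uR
  have hDW : LinearMap.range L ⊓ W ≤ Submodule.span (ZMod 2) {h.pr ⟨u, huF⟩} := by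
    rintro d ⟨hd, hdW⟩
    obtain ⟨x, hx, rfl⟩ := (hmemW d).1 hdW
    have h1 : ∀ y ∈ R, (x : G) * y = y * x := by
      intro y hy
      exact (h.b_pr x ⟨y, D.R_le_F hy⟩).1 (hDperp _ hd _ (hWfix ⟨⟨y, D.R_le_F hy⟩, hy, rfl⟩))
    rcases D.cR x hx h1 with h2 | h2 | h2 | h2
    · have : h.pr x = 0 := (h.pr_eq_zero).2 (Or.inl h2)
      rw [this]; exact Submodule.zero_mem _
    · have : h.pr x = h.pr ⟨u, huF⟩ := (h.pr_eq_pr).2 (Or.inl h2)
      rw [this]; exact Submodule.mem_span_singleton_self _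
    · have : h.pr x = 0 := (h.pr_eq_zero).2 (Or.inr h2)
      rw [this]; exact Submodule.zero_mem _
    · have : h.pr x = h.pr ⟨u, huF⟩ := (h.pr_eq_pr).2 (Or.inr h2)
      rw [this]; exact Submodule.mem_span_singleton_self _
  have hsucc : finrank (ZMod 2) (LinearMap.range L) ≤
      finrank (ZMod 2) (LinearMap.range L ⊓ W : Submodule (ZMod 2) h.V) + 1 :=
    finrank_le_succ (LinearMap.range L ⊓ W) (LinearMap.range L) (by
      intro v hv w hw hvW hwW
      exact ⟨Submodule.add_mem _ hv hw, hadd v (hDfix v hv) w (hDfix w hw) (fun h2 => hvW ⟨hv, h2⟩)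
        (fun h2 => hwW ⟨hw, h2⟩)⟩)
  have hrange : finrank (ZMod 2) (LinearMap.range L) ≤ 2 := by
    have h2 := Submodule.finrank_mono hDW
    have h3 : finrank (ZMod 2) (Submodule.span (ZMod 2) {h.pr ⟨u, huF⟩}) ≤ 1 := finrank_span_le_one _
    omega
  have hrk := LinearMap.finrank_range_add_finrank_ker L
  rw [hker, hfix6] at hrk
  have hev := even_finrank h
  have hne : finrank (ZMod 2) (LinearMap.range L) ≠ 0 := by
    intro h0
    apply ht
    apply h.mem_of_act tc
    ext v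
    show h.act tc v = v
    have h1 : L v ∈ LinearMap.range L := ⟨v, rfl⟩
    have h2 : LinearMap.range L = ⊥ := Submodule.finrank_eq_zero.1 h0
    rw [h2, Submodule.mem_bot] at h1
    have h3 : v ∈ LinearMap.ker L := h1
    rw [hker, mem_fix] at h3
    exact h3
  have h8 : finrank (ZMod 2) h.V = 8 := by
    rw [Nat.even_iff] at hev
    omega
  have h2 : finrank (ZMod 2) (LinearMap.range L) = 2 := by omega
  refine ⟨h8, h2, ?_⟩
  -- `u ∈ [V, t]`
  have h3 : finrank (ZMod 2) (LinearMap.range L ⊓ W : Submodule (ZMod 2) h.V) ≠ 0 := by omega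
  have h4 : (LinearMap.range L ⊓ W : Submodule (ZMod 2) h.V) ≠ ⊥ := by
    intro h5
    rw [h5, finrank_bot] at h3
    exact h3 rfl
  obtain ⟨d, hd, hd0⟩ := Submodule.exists_mem_ne_zero_of_ne_bot h4
  obtain ⟨c, hc⟩ := Submodule.mem_span_singleton.1 (hDW hd)
  have hc1 : c = 1 := by
    rcases zmod_two c with h5 | h5
    · rw [h5, zero_smul] at hc
      exact absurd hc.symm hd0
    · exact h5
  rw [hc1, one_smul] at hc
  obtain ⟨v, hv⟩ := hd.1
  exact ⟨v, by rw [hc, ← hv]; rfl⟩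

/-- **(2)** if `F` is extraspecial, then `|F| = 2^9` -/
theorem card_eq [Finite G] (D : Data t z u P R F) (ht : t ∉ F)
    (TR : ∀ lam : centralizer ({z} : Set G) →* ℤˣ, lam ⟨t, mem_centralizer_singleton_iff.2 D.comm⟩ = 1)
    (h : Large F z) : Nat.card F = 2 ^ 9 := by
  have hV : Nat.card h.V = 2 ^ 8 := by
    have := Module.natCard_eq_pow_finrank (K := ZMod 2) (V := h.V)
    rwa [Nat.card_zmod, (D.rank_eq ht TR h).1] at this
  rw [h.card_eq, hV]
  norm_num

/-- **(3)** (helper970) `F` is not extraspecial -/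
theorem not_large [Finite G] (D : Data t z u P R F) (ht : t ∉ F)
    (TR : ∀ lam : centralizer ({z} : Set G) →* ℤˣ, lam ⟨t, mem_centralizer_singleton_iff.2 D.comm⟩ = 1)
    (h : Large F z) {g x₀ r₁ r₂ s₁ s₂ : G} (hg : g * z = z * g) (hgt : g * t * g⁻¹ = t * x₀)
    (hx₀z : x₀ * z = z * x₀) (hr₁ : r₁ ∈ R) (hr₂ : r₂ ∈ R)
    (hs₁ : x₀ * r₁ * x₀⁻¹ * r₁⁻¹ = s₁) (hs₂ : x₀ * r₂ * x₀⁻¹ * r₂⁻¹ = s₂) (hR₁ : s₁ ∈ R) (hR₂ : s₂ ∈ R)
    (h₁ : s₁ * s₁ = 1) (h₂ : s₂ * s₂ = 1) (h₁₂ : s₁ * s₂ * (s₁ * s₂) = 1)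
    (n₁ : s₁ ≠ 1 ∧ s₁ ≠ z) (n₂ : s₂ ≠ 1 ∧ s₂ ≠ z) (n₁₂ : s₁ * s₂ ≠ 1 ∧ s₁ * s₂ ≠ z) : False := by
  classical
  have hfin := finiteDim h
  obtain ⟨h8, hrk, v, hv⟩ := D.rank_eq ht TR h
  set tc : centralizer ({z} : Set G) := ⟨t, mem_centralizer_singleton_iff.2 D.comm⟩ with htc
  set gc : centralizer ({z} : Set G) := ⟨g, mem_centralizer_singleton_iff.2 hg⟩ with hgc
  set xc : centralizer ({z} : Set G) := ⟨x₀, mem_centralizer_singleton_iff.2 hx₀z⟩ with hxc
  have hcomp : h.act gc * h.act tc = h.act tc * h.act xc * h.act gc := by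
    rw [← map_mul, ← map_mul, ← map_mul]
    congr 1
    apply Subtype.ext
    show g * t = t * x₀ * g
    rw [← hgt]; group
  set S : Submodule (ZMod 2) h.V := (LinearMap.range ((h.act tc).toLinearMap +
      (LinearMap.id : h.V →ₗ[ZMod 2] h.V))).map (h.act gc).toLinearMap with hS
  have hS4 : Nat.card S = 4 := by
    have h3 : finrank (ZMod 2) S = 2 := by
      rw [hS, LinearEquiv.finrank_map_eq]
      exact hrk
    have := Module.natCard_eq_pow_finrank (K := ZMod 2) (V := S)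
    rwa [Nat.card_zmod, h3] at this
  have hmem : ∀ w, h.act tc (h.act xc w) + w ∈ S := by
    intro w
    refine ⟨_, ⟨(h.act gc).symm w, rfl⟩, ?_⟩
    show h.act gc (h.act tc ((h.act gc).symm w) + (h.act gc).symm w) = _
    rw [map_add, LinearEquiv.apply_symm_apply]
    congr 1
    have h3 := congrArg (fun f : h.V ≃ₗ[ZMod 2] h.V => f ((h.act gc).symm w)) hcomp
    have h4 : h.act gc (h.act tc ((h.act gc).symm w)) =
        h.act tc (h.act xc (h.act gc ((h.act gc).symm w))) := h3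
    rw [h4, LinearEquiv.apply_symm_apply]
  have hRF := D.R_le_F
  have hact : ∀ {r s : G} (hr : r ∈ R) (hsR : s ∈ R), x₀ * r * x₀⁻¹ * r⁻¹ = s →
      h.pr ⟨s, hRF hsR⟩ ∈ S := by
    intro r s hr hsR hs
    have h3 := hmem (h.pr ⟨r, hRF hr⟩)
    have h4 : h.act xc (h.pr ⟨r, hRF hr⟩) = h.pr ⟨s, hRF hsR⟩ + h.pr ⟨r, hRF hr⟩ := by
      rw [h.act_pr, ← h.pr_mul, h.pr_eq_pr, h.conjQ_coe]
      left
      show x₀ * r * x₀⁻¹ = s * r
      rw [← hs]; group
    have h5 : ∀ {y : G} (hy : y ∈ R), h.act tc (h.pr ⟨y, hRF hy⟩) = h.pr ⟨y, hRF hy⟩ := by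
      intro y hy
      rw [h.act_pr, h.pr_eq_pr, h.conjQ_coe]
      left
      show t * y * t⁻¹ = y
      rw [← D.R_comm hy]; group
    rw [h4, map_add, h5 hsR, h5 hr, add_assoc, h.add_self, add_zero] at h3
    exact h3
  have ha := hact hr₁ hR₁ hs₁
  have hb := hact hr₂ hR₂ hs₂
  have hab : h.pr ⟨s₁, hRF hR₁⟩ + h.pr ⟨s₂, hRF hR₂⟩ = h.pr ⟨s₁ * s₂, hRF (R.mul_mem hR₁ hR₂)⟩ :=
    (h.pr_mul _ _).symm
  have hne : ∀ {s : G} (hs : s ∈ F), s ≠ 1 ∧ s ≠ z → h.pr ⟨s, hs⟩ ≠ 0 := by
    intro s hs hn h3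
    rcases (h.pr_eq_zero).1 h3 with h4 | h4
    · exact hn.1 h4
    · exact hn.2 h4
  have hfour := four hS4 ha hb (hne _ n₁) (hne _ n₂) (by rw [hab]; exact hne _ n₁₂)
  have hu : h.act gc (h.pr ⟨u, hRF D.uR⟩) ∈ S := by
    refine ⟨_, ⟨v, rfl⟩, ?_⟩
    show h.act gc (h.act tc v + v) = _
    rw [hv]
  have hq : h.q (h.act gc (h.pr ⟨u, hRF D.uR⟩)) = 1 := by
    rw [h.q_act, h.q_eq_one]
    exact D.uu
  have hq0 : ∀ {s : G} (hs : s ∈ F), s * s = 1 → h.q (h.pr ⟨s, hs⟩) = 0 := fun hs h3 =>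
    (h.q_eq_zero).2 h3
  rcases hfour _ hu with h3 | h3 | h3 | h3
  · rw [h3, h.q_zero] at hq
    exact absurd hq (by decide)
  · rw [h3, hq0 _ h₁] at hq
    exact absurd hq (by decide)
  · rw [h3, hq0 _ h₂] at hq
    exact absurd hq (by decide)
  · rw [h3, hab, hq0 _ h₁₂] at hq
    exact absurd hq (by decide)

end Data

end Cfsg.Agent.OddHalf.D8.TypeHS

end

-- merged: Cfsg.Agent.OddHalf.D8.HS.Loc
section

/-!
# ODD half, D8, `K = HS`, case `E(C_G(z)) = 1`: the abstract part (helper970)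

`H = C_G(z)`, `F` a normal 2-subgroup of `H` with `C_H(F) ≤ F`, `t ∈ H` an involution, `N` a group of elements of
`H` mapping `t` to `t` or `t z`, `u² = z`. `Hyp`: every abelian `N`-invariant subgroup of `C_F(t)` is contained in
`⟨u⟩`. `Goal`: `H` has a homomorphism to `{±1}` with value `-1` at `t`.

* `Hyp.cyclic`: if not `Goal`, every abelian subgroup of `F` normal in `H` is cyclic.
* `symplectic`: with `F = F*(H)`: `Goal`, or `F*(H)` is of symplectic type (Prelude).
* `Hyp.swap_false`: if `F` is extraspecial and `g ∈ H` maps `t` to `t x`, `x ∈ C(t)`, where `[C_F(t), x]` contains a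
  four-group modulo `⟨z⟩` of involutions, contradiction. Proof: `[V, t]` (`V = F/⟨z⟩`) is perpendicular to `C_F(t)`;
  an element of `[V, t]` covered by `C_F(t)` is in the centre of `C_F(t)`, so in `{0, ū}`; of two elements of
  `[V, t]` not covered by `C_F(t)` the sum is covered. `[V, t x]` is conjugate to `[V, t]`.
* `concl`: `Goal`, or `F*(H)` is of symplectic type and not extraspecial.
-/

set_option autoImplicit false
set_option linter.style.haveILetI false

namespace Cfsg.Agent.OddHalf.D8.HS.Loc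

open Subgroup
open Cfsg.Agent.Co2Type.Quad

variable {G : Type*} [Group G]

/-- the hypotheses; see the header -/
structure Hyp (t z u : G) (N F : Subgroup G) : Prop extends Lam.Base t z F where
  hN : ∀ n ∈ N, n * z = z * n ∧ (n * t * n⁻¹ = t ∨ n * t * n⁻¹ = t * z)
  uu : u * u = z
  /-- abelian subgroups of `C_F(t)` normalised by `N` are contained in `⟨u⟩` -/
  ab : ∀ B : Subgroup G, B ≤ F → (∀ b ∈ B, b * t = t * b) → (∀ a ∈ B, ∀ b ∈ B, a * b = b * a) →
    (∀ n ∈ N, ∀ b ∈ B, n * b * n⁻¹ ∈ B) → ∀ b ∈ B, b = 1 ∨ b = z ∨ b = u ∨ b = u * z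

/-- the element `x` and `r, s ∈ C_F(t)` such that `[r, x]`, `[s, x]` generate a four-group of involutions modulo
`⟨z⟩` -/
structure Sing (x r s z : G) : Prop where
  c2 : (x * r * x⁻¹ * r⁻¹) * (x * r * x⁻¹ * r⁻¹) = 1
  d2 : (x * s * x⁻¹ * s⁻¹) * (x * s * x⁻¹ * s⁻¹) = 1
  cd2 : (x * r * x⁻¹ * r⁻¹) * (x * s * x⁻¹ * s⁻¹) * ((x * r * x⁻¹ * r⁻¹) * (x * s * x⁻¹ * s⁻¹)) = 1
  c1 : x * r * x⁻¹ * r⁻¹ ≠ 1
  cz : x * r * x⁻¹ * r⁻¹ ≠ z
  d1 : x * s * x⁻¹ * s⁻¹ ≠ 1
  dz : x * s * x⁻¹ * s⁻¹ ≠ z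
  cd1 : (x * r * x⁻¹ * r⁻¹) * (x * s * x⁻¹ * s⁻¹) ≠ 1
  cdz : (x * r * x⁻¹ * r⁻¹) * (x * s * x⁻¹ * s⁻¹) ≠ z

namespace Hyp

variable {t z u : G} {N F : Subgroup G}

/-- `N` normalises `C_F(t)` -/
theorem fix_conj (h : Hyp t z u N F) {n b : G} (hn : n ∈ N) (hb : b ∈ F) (hbt : b * t = t * b) :
    n * b * n⁻¹ * t = t * (n * b * n⁻¹) := by
  obtain ⟨hnz, hnt⟩ := h.hN n hn
  have hc : Commute b t := hbt
  have hcz : Commute (n * b * n⁻¹) z := h.le _ (h.nor n hnz b hb)
  have h1 : n * b * n⁻¹ * (n * t * n⁻¹) = n * t * n⁻¹ * (n * b * n⁻¹) := by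
    calc n * b * n⁻¹ * (n * t * n⁻¹) = n * (b * t) * n⁻¹ := by group
      _ = n * (t * b) * n⁻¹ := by rw [hc.eq]
      _ = n * t * n⁻¹ * (n * b * n⁻¹) := by group
  rcases hnt with h2 | h2
  · rw [h2] at h1; exact h1
  · rw [h2] at h1
    have h3 : Commute (n * b * n⁻¹) (t * z) := h1
    have h4 : Commute (n * b * n⁻¹) (t * z * z) := h3.mul_right hcz
    have h5 : t * z * z = t := by rw [mul_assoc, h.zz, mul_one]
    rw [h5] at h4
    exact h4

/-- the `t`-fixed elements of an abelian normal subgroup -/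
theorem fixed (h : Hyp t z u N F) {W : Subgroup G} (hW : W ≤ F) (hab : ∀ a ∈ W, ∀ b ∈ W, a * b = b * a)
    (hn : ∀ g, g * z = z * g → ∀ w ∈ W, g * w * g⁻¹ ∈ W) {w : G} (hw : w ∈ W) (hwt : w * t = t * w) :
    w = 1 ∨ w = z ∨ w = u ∨ w = u * z := by
  refine h.ab (W ⊓ centralizer ({t} : Set G)) (fun x hx => hW hx.1)
    (fun b hb => mem_centralizer_singleton_iff.1 hb.2) (fun a ha b hb => hab a ha.1 b hb.1) ?_ w
    ⟨hw, mem_centralizer_singleton_iff.2 hwt⟩
  rintro n hnN b ⟨hb1, hb2⟩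
  exact ⟨hn n (h.hN n hnN).1 b hb1, mem_centralizer_singleton_iff.2
    (h.fix_conj hnN (hW hb1) (mem_centralizer_singleton_iff.1 hb2))⟩

theorem uz (h : Hyp t z u N F) : u * z = z * u := by
  rw [← h.uu]; group

/-- the elements of `⟨u⟩` of square one -/
theorem of_sq (h : Hyp t z u N F) {w : G} (hw : w = 1 ∨ w = z ∨ w = u ∨ w = u * z) (hww : w * w = 1) :
    w = 1 ∨ w = z := by
  rcases hw with h1 | h1 | h1 | h1
  · exact Or.inl h1
  · exact Or.inr h1
  · exfalso
    rw [h1, h.uu] at hww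
    exact h.z1 hww
  · exfalso
    apply h.z1
    calc z = z * (z * z) := by rw [h.zz, mul_one]
      _ = (u * u) * (z * z) := by rw [h.uu]
      _ = u * (u * z) * z := by group
      _ = u * (z * u) * z := by rw [h.uz]
      _ = w * w := by rw [h1]; group
      _ = 1 := hww

/-- involutions of an abelian normal subgroup -/
theorem elem2 (h : Hyp t z u N F) (hg : ¬ h.Goal) {W : Subgroup G} (hW : W ≤ F)
    (hab : ∀ a ∈ W, ∀ b ∈ W, a * b = b * a)
    (hn : ∀ g, g * z = z * g → ∀ w ∈ W, g * w * g⁻¹ ∈ W) {a : G} (ha : a ∈ W) (haa : a * a = 1) :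
    a = 1 ∨ a = z := by
  set W1 : Subgroup G :=
    { carrier := {x | x ∈ W ∧ x * x = 1}
      one_mem' := ⟨W.one_mem, one_mul 1⟩
      mul_mem' := by
        rintro x y ⟨hx, hx2⟩ ⟨hy, hy2⟩
        refine ⟨W.mul_mem hx hy, ?_⟩
        calc x * y * (x * y) = x * (y * x) * y := by group
          _ = x * x * (y * y) := by rw [hab y hy x hx]; group
          _ = 1 := by rw [hx2, hy2, one_mul]
      inv_mem' := by
        rintro x ⟨hx, hx2⟩
        refine ⟨W.inv_mem hx, ?_⟩
        rw [← mul_inv_rev, hx2, inv_one] } with hW1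
  have h1 : ∀ x, x ∈ W1 ↔ x ∈ W ∧ x * x = 1 := fun x => Iff.rfl
  refine ((h.elem (W := W1) (fun x hx => hW ((h1 x).1 hx).1)
    (fun x hx y hy => hab x ((h1 x).1 hx).1 y ((h1 y).1 hy).1) (fun x hx => ((h1 x).1 hx).2) ?_
    (fun w hw hwt => h.of_sq (h.fixed hW hab hn ((h1 w).1 hw).1 hwt) ((h1 w).1 hw).2)
    ((h1 a).2 ⟨ha, haa⟩)).resolve_right hg)
  intro g hgz x hx
  rw [h1] at hx ⊢
  refine ⟨hn g hgz x hx.1, ?_⟩
  calc g * x * g⁻¹ * (g * x * g⁻¹) = g * (x * x) * g⁻¹ := by group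
    _ = 1 := by rw [hx.2]; group

/-- abelian normal subgroups are cyclic -/
theorem cyclic [Finite G] (h : Hyp t z u N F) (hg : ¬ h.Goal) {W : Subgroup G} (hW : W ≤ F)
    (hab : ∀ a ∈ W, ∀ b ∈ W, a * b = b * a)
    (hn : ∀ g, g * z = z * g → ∀ w ∈ W, g * w * g⁻¹ ∈ W) : IsCyclic W := by
  classical
  letI : CommGroup W := { (inferInstance : Group W) with mul_comm := fun a b => Subtype.ext (hab a a.2 b b.2) }
  haveI : Fact (Nat.Prime 2) := ⟨Nat.prime_two⟩
  refine Cfsg.Agent.Transfer.PGroupNormal.isCyclic_of_card_ker_pow_le (p := 2) (h.pF.to_le hW) ?_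
  have hk : ∀ x : (powMonoidHom 2 : W →* W).ker, ((x : W) : G) = 1 ∨ ((x : W) : G) = z := by
    intro x
    have h1 : ((x : W)) ^ 2 = 1 := x.2
    refine h.elem2 hg hW hab hn (x : W).2 ?_
    rw [pow_two] at h1
    exact congrArg Subtype.val h1
  let f : (powMonoidHom 2 : W →* W).ker → Bool := fun x => decide (((x : W) : G) = 1)
  have hf : Function.Injective f := by
    intro x y hxy
    have h1 : (((x : W) : G) = 1) ↔ (((y : W) : G) = 1) := by
      have := hxy
      simpa [f] using this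
    apply Subtype.ext
    apply Subtype.ext
    rcases hk x with h2 | h2
    · rw [h2, h1.1 h2]
    · rcases hk y with h3 | h3
      · rw [h3, h1.2 h3]
      · rw [h2, h3]
  have h4 := Nat.card_le_card_of_injective f hf
  rwa [Nat.card_eq_fintype_card (α := Bool), Fintype.card_bool] at h4

/-- **If `F` is extraspecial, the swap is impossible.** -/
theorem swap_false [Finite G] (h : Hyp t z u N F) (L : Large F z) {g x r s : G} (hg : g * z = z * g)
    (hgt : g * t * g⁻¹ = t * x) (hxt : x * t = t * x) (hxz : x * z = z * x) (hr : r ∈ F) (hs : s ∈ F)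
    (hrt : r * t = t * r) (hst : s * t = t * s) (S : Sing x r s z) : False := by
  set τ : centralizer ({z} : Set G) := ⟨t, mem_centralizer_singleton_iff.2 h.comm⟩ with hτ
  set ξ : centralizer ({z} : Set G) := ⟨x, mem_centralizer_singleton_iff.2 hxz⟩ with hξ
  set γ : centralizer ({z} : Set G) := ⟨g, mem_centralizer_singleton_iff.2 hg⟩ with hγ
  have hff : ∀ v, L.act τ (L.act τ v) = v := by
    intro v
    have h1 : L.act (τ * τ) v = v := by
      have : τ * τ = 1 := Subtype.ext h.tt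
      rw [this, map_one]; rfl
    rw [map_mul] at h1
    exact h1
  -- fixed elements
  have hfix : ∀ y : F, (y : G) * t = t * y → L.act τ (L.pr y) = L.pr y := by
    intro y hy
    rw [L.act_pr, L.pr_eq_pr, L.conjQ_coe]
    left
    show t * y * t⁻¹ = y
    rw [← hy]; group
  have hcases : ∀ y : F, L.act τ (L.pr y) = L.pr y → (y : G) * t = t * y ∨ t * (y : G) = y * z * t := by
    intro y hy
    rw [L.act_pr, L.pr_eq_pr, L.conjQ_coe] at hy
    rcases hy with h1 | h1
    · left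
      have h1' : t * (y : G) * t⁻¹ = y := h1
      rw [mul_inv_eq_iff_eq_mul] at h1'
      exact h1'.symm
    · right
      have h1' : t * (y : G) * t⁻¹ = y * z := h1
      rw [mul_inv_eq_iff_eq_mul] at h1'
      exact h1'
  have hDfix : ∀ v, L.act τ (L.act τ v + v) = L.act τ v + v := by
    intro v; rw [map_add, hff, add_comm]
  have hDperp : ∀ v, ∀ y : F, (y : G) * t = t * y → L.b (L.act τ v + v) (L.pr y) = 0 := by
    intro v y hy
    rw [map_add, LinearMap.add_apply]
    have h1 := L.b_act τ v (L.pr y)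
    rw [hfix y hy] at h1
    rw [h1]
    have : ∀ a : ZMod 2, a + a = 0 := by decide
    exact this _
  -- the centre of `C_F(t)`
  set X : Subgroup G := F ⊓ centralizer ({t} : Set G) with hX
  have hmX : ∀ c, c ∈ X ↔ c ∈ F ∧ c * t = t * c := fun c => by
    rw [hX, mem_inf, mem_centralizer_singleton_iff]
  have hcenX : ∀ y ∈ F, y * t = t * y → (∀ w ∈ F, w * t = t * w → y * w = w * y) →
      y = 1 ∨ y = z ∨ y = u ∨ y = u * z := by
    intro y hy hyt hyc
    refine h.ab (X ⊓ centralizer (X : Set G)) (fun y hy => ((hmX y).1 hy.1).1)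
      (fun b hb => ((hmX b).1 hb.1).2) ?_ ?_ y ?_
    · intro a ha b hb
      exact mem_centralizer_iff.1 hb.2 a ha.1
    · intro n hn b hb
      have key : ∀ m ∈ N, ∀ c ∈ X, m * c * m⁻¹ ∈ X := by
        intro m hm c hc
        obtain ⟨hc1, hc2⟩ := (hmX c).1 hc
        exact (hmX _).2 ⟨h.nor m (h.hN m hm).1 c hc1, h.fix_conj hm hc1 hc2⟩
      refine ⟨key n hn b hb.1, mem_centralizer_iff.2 ?_⟩
      intro c hc
      have h3 := key n⁻¹ (N.inv_mem hn) c hc
      rw [inv_inv] at h3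
      have h4 := mem_centralizer_iff.1 hb.2 _ h3
      calc c * (n * b * n⁻¹) = n * ((n⁻¹ * c * n) * b) * n⁻¹ := by group
        _ = n * (b * (n⁻¹ * c * n)) * n⁻¹ := by rw [h4]
        _ = n * b * n⁻¹ * c := by group
    · refine ⟨(hmX y).2 ⟨hy, hyt⟩, mem_centralizer_iff.2 fun w hw => ?_⟩
      obtain ⟨hw1, hw2⟩ := (hmX w).1 hw
      exact (hyc w hw1 hw2).symm
  -- an element of `C_F(t)` covering an element of `[V, t]`
  have hcov : ∀ y : F, (y : G) * t = t * y → (∃ v, L.pr y = L.act τ v + v) →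
      (y : G) = 1 ∨ (y : G) = z ∨ (y : G) = u ∨ (y : G) = u * z := by
    rintro y hy ⟨v, hv⟩
    refine hcenX y y.2 hy fun w hw hwt => ?_
    refine (L.b_pr y ⟨w, hw⟩).1 ?_
    rw [hv]
    exact hDperp v ⟨w, hw⟩ hwt
  -- nonzero singular elements of `[V, t]` are not covered
  have hcov2 : ∀ y : F, (∃ v, L.pr y = L.act τ v + v) → L.q (L.pr y) = 0 → L.pr y ≠ 0 →
      t * (y : G) = y * z * t := by
    rintro y ⟨v, hv⟩ hq h0
    have h1 : L.act τ (L.pr y) = L.pr y := by rw [hv]; exact hDfix v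
    rcases hcases y h1 with h2 | h2
    · exfalso
      apply h0
      rw [L.pr_eq_zero]
      exact h.of_sq (hcov y h2 ⟨v, hv⟩) (L.q_eq_zero.1 hq)
    · exact h2
  have hsum : ∀ v w, L.q (L.act τ v + v) = 0 → L.act τ v + v ≠ 0 → L.q (L.act τ w + w) = 0 →
      L.act τ w + w ≠ 0 → L.q (L.act τ v + v + (L.act τ w + w)) = 0 →
      L.act τ v + v + (L.act τ w + w) ≠ 0 → False := by
    intro v w hv1 hv2 hw1 hw2 hs1 hs2
    obtain ⟨a, ha⟩ := L.pr_surjective (L.act τ v + v)
    obtain ⟨c, hc⟩ := L.pr_surjective (L.act τ w + w)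
    have h1 := hcov2 a ⟨v, ha⟩ (by rw [ha]; exact hv1) (by rw [ha]; exact hv2)
    have h2 := hcov2 c ⟨w, hc⟩ (by rw [hc]; exact hw1) (by rw [hc]; exact hw2)
    have hpr : L.pr (a * c) = L.act τ (v + w) + (v + w) := by
      rw [L.pr_mul, ha, hc, map_add]
      abel
    have hpr2 : L.pr (a * c) = L.act τ v + v + (L.act τ w + w) := by
      rw [L.pr_mul, ha, hc]
    have h3 := hcov2 (a * c) ⟨v + w, hpr⟩ (by rw [hpr2]; exact hs1) (by rw [hpr2]; exact hs2)
    have hcz : (c : G) * z = z * c := L.comm_z c c.2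
    have h4 : t * ((a : G) * c) = a * c * t := by
      calc t * ((a : G) * c) = t * a * c := by group
        _ = a * z * (t * c) := by rw [h1]; group
        _ = a * (z * c) * z * t := by rw [h2]; group
        _ = a * c * (z * z) * t := by rw [← hcz]; group
        _ = a * c * t := by rw [L.z_sq]; group
    have h5 : t * ((a : G) * c) = a * c * z * t := h3
    rw [h4] at h5
    have h6 : (a : G) * c * 1 = a * c * z := by
      rw [mul_one]
      exact mul_right_cancel h5
    exact L.z_ne (mul_left_cancel h6).symm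
  -- the action of `t x`
  have hginv : ∀ v, L.act γ⁻¹ (L.act γ v) = v := by
    intro v
    have h1 : L.act (γ⁻¹ * γ) v = v := by
      rw [inv_mul_cancel, map_one]; rfl
    rw [map_mul] at h1
    exact h1
  have hgt' : γ⁻¹ * (τ * ξ) = τ * γ⁻¹ := by
    apply Subtype.ext
    show g⁻¹ * (t * x) = t * g⁻¹
    rw [← hgt]; group
  have htrans : ∀ v, L.act τ (L.act γ⁻¹ v) + L.act γ⁻¹ v = L.act γ⁻¹ (L.act (τ * ξ) v + v) := by
    intro v
    rw [map_add]
    congr 1
    have h1 : L.act (γ⁻¹ * (τ * ξ)) v = L.act (τ * γ⁻¹) v := by rw [hgt']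
    rw [L.act.map_mul γ⁻¹ (τ * ξ), L.act.map_mul τ γ⁻¹] at h1
    exact h1.symm
  have hc : ∀ r : F, (r : G) * t = t * r → ∃ c : F, (c : G) = x * r * x⁻¹ * (r : G)⁻¹ ∧
      L.act (τ * ξ) (L.pr r) + L.pr r = L.pr c := by
    intro r hrt
    have hm : x * r * x⁻¹ ∈ F := h.nor x hxz r r.2
    refine ⟨⟨x * r * x⁻¹, hm⟩ * r⁻¹, rfl, ?_⟩
    rw [L.pr_mul, L.pr_inv, L.neg_eq]
    congr 1
    rw [L.act_pr, L.pr_eq_pr, L.conjQ_coe]
    left
    show t * x * r * (t * x)⁻¹ = x * r * x⁻¹
    have c1 : Commute (r : G) t := hrt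
    have c2 : Commute x t := hxt
    have c3 : Commute (x * r * x⁻¹) t := (c2.mul_left c1).mul_left c2.inv_left
    calc t * x * r * (t * x)⁻¹ = t * (x * r * x⁻¹) * t⁻¹ := by group
      _ = x * r * x⁻¹ * t * t⁻¹ := by rw [c3.eq]
      _ = x * r * x⁻¹ := by group
  obtain ⟨c, hc1, hc2⟩ := hc ⟨r, hr⟩ hrt
  obtain ⟨d, hd1, hd2⟩ := hc ⟨s, hs⟩ hst
  have hc1' : (c : G) = x * r * x⁻¹ * r⁻¹ := hc1
  have hd1' : (d : G) = x * s * x⁻¹ * s⁻¹ := hd1
  have hcd : ((c * d : F) : G) = x * r * x⁻¹ * r⁻¹ * (x * s * x⁻¹ * s⁻¹) := by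
    rw [Subgroup.coe_mul, hc1', hd1']
  have ec := htrans (L.pr ⟨r, hr⟩)
  rw [hc2] at ec
  have ed := htrans (L.pr ⟨s, hs⟩)
  rw [hd2] at ed
  have hne : ∀ v, v ≠ 0 → L.act γ⁻¹ v ≠ 0 := by
    intro v hv h1
    apply hv
    exact (LinearEquiv.map_eq_zero_iff (L.act γ⁻¹)).1 h1
  have h0 : ∀ e : F, (e : G) ≠ 1 → (e : G) ≠ z → L.pr e ≠ 0 := by
    intro e h1 h2 h3
    rcases L.pr_eq_zero.1 h3 with h4 | h4
    · exact h1 h4
    · exact h2 h4
  refine hsum (L.act γ⁻¹ (L.pr ⟨r, hr⟩)) (L.act γ⁻¹ (L.pr ⟨s, hs⟩)) ?_ ?_ ?_ ?_ ?_ ?_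
  · rw [ec, L.q_act, L.q_eq_zero, hc1']; exact S.c2
  · rw [ec]
    exact hne _ (h0 c (by rw [hc1']; exact S.c1) (by rw [hc1']; exact S.cz))
  · rw [ed, L.q_act, L.q_eq_zero, hd1']; exact S.d2
  · rw [ed]
    exact hne _ (h0 d (by rw [hd1']; exact S.d1) (by rw [hd1']; exact S.dz))
  · rw [ec, ed, ← map_add, L.q_act, ← L.pr_mul, L.q_eq_zero, hcd]; exact S.cd2
  · rw [ec, ed, ← map_add, ← L.pr_mul]
    exact hne _ (h0 (c * d) (by rw [hcd]; exact S.cd1) (by rw [hcd]; exact S.cdz))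

end Hyp

/-- `F*(C_G(z))` as a subgroup of `G` -/
abbrev FS (z : G) : Subgroup G :=
  (Cfsg.generalizedFittingSubgroup ↥(centralizer ({z} : Set G))).map (centralizer ({z} : Set G)).subtype

/-- **`Goal` or symplectic type** -/
theorem symplectic [Finite G] {t z u : G} {N : Subgroup G} (h : Hyp t z u N (FS z)) (hg : ¬ h.Goal) :
    Cfsg.IsOfSymplecticType ↥(Cfsg.generalizedFittingSubgroup ↥(centralizer ({z} : Set G))) := by
  have hn := Cfsg.Agent.S1755.gfs_normal ↥(centralizer ({z} : Set G))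
  revert h hg hn
  unfold FS
  generalize Cfsg.generalizedFittingSubgroup ↥(centralizer ({z} : Set G)) = Q
  intro h hg hn
  have e := Q.equivMapOfInjective _ (centralizer ({z} : Set G)).subtype_injective
  refine ⟨h.pF.of_equiv e.symm, ?_⟩
  intro A hA hab
  have hA2 : (A.map Q.subtype).Normal := ConjAct.normal_of_characteristic_of_normal
  have h1 := h.cyclic hg (W := (A.map Q.subtype).map (centralizer ({z} : Set G)).subtype) ?_ ?_ ?_
  · have e1 := A.equivMapOfInjective _ Q.subtype_injective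
    have e2 := (A.map Q.subtype).equivMapOfInjective _ (centralizer ({z} : Set G)).subtype_injective
    exact isCyclic_of_surjective _ (e1.trans e2).symm.surjective
  · apply map_mono
    rintro _ ⟨y, -, rfl⟩
    exact y.2
  · rintro _ ⟨_, ⟨a, ha, rfl⟩, rfl⟩ _ ⟨_, ⟨b, hb, rfl⟩, rfl⟩
    have h2 : (⟨a, ha⟩ : A) * ⟨b, hb⟩ = ⟨b, hb⟩ * ⟨a, ha⟩ := hab.is_comm.comm _ _
    have h3 := congrArg (fun y : A => (((y : Q) : centralizer ({z} : Set G)) : G)) h2
    exact h3
  · rintro g hgz _ ⟨y, hy, rfl⟩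
    exact ⟨⟨g, mem_centralizer_singleton_iff.2 hgz⟩ * y * ⟨g, mem_centralizer_singleton_iff.2 hgz⟩⁻¹,
      hA2.conj_mem y hy _, rfl⟩

/-- **The conclusion**: `Goal`, or `F*(C_G(z))` is of symplectic type and not extraspecial. -/
theorem concl [Finite G] {t z u : G} {N : Subgroup G} (h : Hyp t z u N (FS z)) {g x r s : G}
    (hg : g * z = z * g) (hgt : g * t * g⁻¹ = t * x) (hxt : x * t = t * x) (hxz : x * z = z * x)
    (hr : r ∈ FS z) (hs : s ∈ FS z) (hrt : r * t = t * r) (hst : s * t = t * s) (S : Sing x r s z) :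
    (∃ lam : centralizer ({z} : Set G) →* ℤˣ, lam ⟨t, mem_centralizer_singleton_iff.2 h.comm⟩ = -1) ∨
    (Cfsg.IsOfSymplecticType ↥(Cfsg.generalizedFittingSubgroup ↥(centralizer ({z} : Set G))) ∧
      ¬ Cfsg.IsExtraspecial 2 ↥(Cfsg.generalizedFittingSubgroup ↥(centralizer ({z} : Set G)))) := by
  by_cases hG : h.Goal
  · exact Or.inl hG
  · refine Or.inr ⟨symplectic h hG, fun hE => ?_⟩
    have hz : orderOf z = 2 := orderOf_eq_prime (by rw [pow_two]; exact h.zz) h.z1
    exact h.swap_false (Cfsg.Agent.LargeExtra.Base.large_of_genFitting z hz hE) hg hgt hxt hxz hr hs hrt hst S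

end Cfsg.Agent.OddHalf.D8.HS.Loc

end

-- merged: Cfsg.Agent.OddHalf.D8.HS.Glue
section

/-!
# ODD half, D8, `K = HS`: from the sheet to the group (helper702)

`Out K t q z P` (front end), `SheetHS z u k P R`, no component of `C_G(z)` ⟹ `F*(C_G(z))` is of symplectic type and
not extraspecial (`concl`).

`exists_y`: the `y`-trick for `HS`; `w = k⁻¹ z k ∈ C_K(z) - P`; `v = x w x⁻¹` is inner on `K` and not of class 2B
(`TypeHS.FS.false_of_L`), not `t` times an element of class 2A, so `v` is `C_K(z)`-conjugate to `w`.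
-/

set_option autoImplicit false

namespace Cfsg.Agent.OddHalf.D8.HS.Glue

open Subgroup Cfsg Cfsg.Agent.OddHalf.Front.FE Cfsg.Agent.OddHalf.D8.Sheet Cfsg.Agent.OddHalf.D8.GlueE
  Cfsg.Agent.OddHalf.D8.Front Cfsg.Agent.OddHalf.D8.HS.SheetHS

universe u

variable {G : Type u} [Group G] {K : Subgroup G} {t q : G} {z v k : K} {P R : Subgroup K}

/-- the automorphism of `K` induced by an element of `C_G(t)` -/
noncomputable def al (h : Emb K t q z P) {g : G} (hg : g * t = t * g) : MulAut K :=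
  K.normalizerMonoidHom ⟨g, h.nor hg⟩

theorem al_apply (h : Emb K t q z P) {g : G} (hg : g * t = t * g) (x : K) :
    ((al h hg x : K) : G) = g * x * g⁻¹ := nmh_apply _ _

/-- inner automorphisms come from `Q K` -/
theorem exists_inner (h : Emb K t q z P) (Q2 : ∀ y ∈ zpowers q, y = 1 ∨ y = t) {g : G}
    (hg : g * t = t * g) {c : K} (hc : al h hg = MulAut.conj c) : g = c ∨ g = c * t := by
  have h1 : (c : G)⁻¹ * g ∈ zpowers q := by
    apply h.st.cK
    · have h4 := h.st.Kt (c : G)⁻¹ (K.inv_mem c.2)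
      calc (c : G)⁻¹ * g * t = (c : G)⁻¹ * (g * t) := by group
        _ = ((c : G)⁻¹ * t) * g := by rw [hg]; group
        _ = t * ((c : G)⁻¹ * g) := by rw [h4]; group
    · exact exists_of_conj (h.nor hg) hc
  rcases Q2 _ h1 with e | e
  · left
    exact (inv_mul_eq_one.1 e).symm
  · right
    rw [← e]; group

/-- the elements of `⟨u⟩` -/
theorem u_ne_inv (sh : SheetHS z v k P R) : v ≠ v⁻¹ := by
  intro h
  apply sh.z1
  rw [← sh.uu]
  nth_rewrite 2 [h]
  exact mul_inv_cancel v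

theorem zP (sh : SheetHS z v k P R) : z ∈ P := sh.basic.zP

/-- an element mapping `t` to `t z` and `z` to `z` normalises `R` -/
theorem conj_R (h : Emb K t q z P) (sh : SheetHS z v k P R) {x : G} (hxt : x * t * x⁻¹ = t * z)
    (hxz : x * z * x⁻¹ = z) {r : G} (hr : r ∈ R.map K.subtype) : x⁻¹ * r * x ∈ R.map K.subtype := by
  have fwd : ∀ y, y ∈ P.map K.subtype ↔ x * y * x⁻¹ ∈ P.map K.subtype := fun y => h.conj_P_swap hxt hxz
  have bwd : ∀ y ∈ P.map K.subtype, x⁻¹ * y * x ∈ P.map K.subtype := by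
    intro y hy
    rw [fwd]
    have : x * (x⁻¹ * y * x) * x⁻¹ = y := by group
    rwa [this]
  set B : Subgroup K := ((R.map K.subtype).map (MulAut.conj x⁻¹).toMonoidHom).subgroupOf K with hB
  have hmB : ∀ y : K, y ∈ B ↔ ∃ r ∈ R, x⁻¹ * (r : G) * x = y := by
    intro y
    rw [hB, mem_subgroupOf]
    constructor
    · rintro ⟨_, ⟨r, hr, rfl⟩, h1⟩
      refine ⟨r, hr, ?_⟩
      have h2 : x⁻¹ * (r : G) * x⁻¹⁻¹ = y := h1
      rwa [inv_inv] at h2
    · rintro ⟨r, hr, h1⟩
      refine ⟨r, ⟨r, hr, rfl⟩, ?_⟩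
      show x⁻¹ * (r : G) * x⁻¹⁻¹ = y
      rw [inv_inv]; exact h1
  have hBP : B ≤ P := by
    intro y hy
    obtain ⟨r, hr, h1⟩ := (hmB y).1 hy
    have h2 := bwd r ⟨r, sh.RP hr, rfl⟩
    rw [h1] at h2
    obtain ⟨_, h3⟩ := Emb.mem_map.1 h2
    exact h3
  have hR2 : IsPGroup 2 R := IsPGroup.of_card (n := 6) (by rw [sh.cardR]; norm_num)
  have h1 : B ≤ R := by
    apply sh.core
    · intro y hy
      exact mem_centralizer_singleton_iff.2 (sh.basic.cen y (hBP hy))
    · have h2 : IsPGroup 2 ((R.map K.subtype).map (MulAut.conj x⁻¹).toMonoidHom) := (hR2.map _).map _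
      exact h2.comap_of_injective K.subtype K.subtype_injective
    · intro y hy b hb
      obtain ⟨r, hr, h3⟩ := (hmB b).1 hb
      have h4 := (fwd y).1 ⟨y, hy, rfl⟩
      obtain ⟨h5, h6⟩ := Emb.mem_map.1 h4
      rw [hmB]
      refine ⟨⟨x * y * x⁻¹, h5⟩ * r * ⟨x * y * x⁻¹, h5⟩⁻¹, sh.Rn _ h6 r hr, ?_⟩
      show x⁻¹ * ((x * (y : G) * x⁻¹) * (r : G) * (x * (y : G) * x⁻¹)⁻¹) * x = (y : G) * (b : G) * (y : G)⁻¹
      rw [← h3]; group
  obtain ⟨r, hr, rfl⟩ := hr
  have h2 := bwd r ⟨r, sh.RP hr, rfl⟩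
  obtain ⟨h3, h4⟩ := Emb.mem_map.1 h2
  exact Emb.mem_map.2 ⟨h3, h1 ((hmB _).2 ⟨r, hr, rfl⟩)⟩

/-- an element mapping `t` to `t z` and `z` to `z` normalises `⟨u⟩` -/
theorem conj_u (h : Emb K t q z P) (sh : SheetHS z v k P R) {x : G} (hxt : x * t * x⁻¹ = t * z)
    (hxz : x * z * x⁻¹ = z) : x * v * x⁻¹ = v ∨ x * v * x⁻¹ = (v : G)⁻¹ := by
  have fwd : ∀ y, y ∈ P.map K.subtype ↔ x * y * x⁻¹ ∈ P.map K.subtype := fun y => h.conj_P_swap hxt hxz
  have hvP : (v : G) ∈ P.map K.subtype := ⟨v, sh.RP sh.uR, rfl⟩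
  obtain ⟨h1, h2⟩ := Emb.mem_map.1 ((fwd _).1 hvP)
  have h3 := sh.cR ⟨x * v * x⁻¹, h1⟩ h2 (by
    intro r hr
    apply Subtype.ext
    show x * (v : G) * x⁻¹ * r = r * (x * (v : G) * x⁻¹)
    obtain ⟨h4, h5⟩ := Emb.mem_map.1 (conj_R h sh hxt hxz (r := (r : G)) ⟨r, hr, rfl⟩)
    have h6 : x⁻¹ * (r : G) * x * v = v * (x⁻¹ * r * x) :=
      congrArg Subtype.val ((sh.memP ⟨x⁻¹ * r * x, h4⟩).1 (sh.RP h5))
    calc x * (v : G) * x⁻¹ * r = x * (v * (x⁻¹ * r * x)) * x⁻¹ := by group
      _ = x * (x⁻¹ * r * x * v) * x⁻¹ := by rw [h6]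
      _ = r * (x * (v : G) * x⁻¹) := by group)
  have hsq : x * (v : G) * x⁻¹ * (x * (v : G) * x⁻¹) = z := by
    have h7 : (v : G) * v = z := congrArg Subtype.val sh.uu
    calc x * (v : G) * x⁻¹ * (x * (v : G) * x⁻¹) = x * (v * v) * x⁻¹ := by group
      _ = z := by rw [h7, hxz]
  have hzz : (z : G) * z = 1 := h.zz
  rcases h3 with e | e | e | e
  · exfalso
    have e' : x * (v : G) * x⁻¹ = 1 := congrArg Subtype.val e
    rw [e', one_mul] at hsq
    exact h.z1 hsq.symm
  · exfalso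
    have e' : x * (v : G) * x⁻¹ = z := congrArg Subtype.val e
    rw [e', hzz] at hsq
    exact h.z1 hsq.symm
  · exact Or.inl (congrArg Subtype.val e)
  · exact Or.inr (congrArg Subtype.val e)

/-- **the `y`-trick for `HS`** -/
theorem exists_y [Finite G] (o : Out K t q z P) (sh : SheetHS z v k P R) {F : Subgroup G}
    (hF : TypeHS.FS (z : G) F) (hFz : ∀ x ∈ F, x * (z : G) = z * x) :
    ∃ y : G, y * z = z * y ∧ y * t * y⁻¹ = t * (k * z * k⁻¹) := by
  have h := o.emb
  obtain ⟨x, -, hxt, hxz⟩ := o.swap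
  have hkt : (k : G) * t = t * k := h.st.Kt k k.2
  -- `w` and `v`
  set w : K := k⁻¹ * z * k with hw
  have hwG : (w : G) = (k : G)⁻¹ * z * k := rfl
  have hww : (w : G) * w = 1 := by
    rw [hwG]
    calc (k : G)⁻¹ * z * k * ((k : G)⁻¹ * z * k) = (k : G)⁻¹ * (z * z) * k := by group
      _ = 1 := by rw [h.zz]; group
  have hwt : (w : G) * t = t * w := h.st.Kt w w.2
  have hwz : (w : G) * z = z * w := congrArg Subtype.val sh.kz
  have hxt' : x⁻¹ * t * x = t * z := by
    have hxz' : x⁻¹ * z * x = z := by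
      calc x⁻¹ * z * x = x⁻¹ * (x * z * x⁻¹) * x := by rw [hxz]
        _ = z := by group
    calc x⁻¹ * t * x = x⁻¹ * (t * z * z) * x := by rw [mul_assoc t, h.zz, mul_one]
      _ = x⁻¹ * (x * t * x⁻¹ * z) * x := by rw [hxt]
      _ = t * (x⁻¹ * z * x) := by group
      _ = t * z := by rw [hxz']
  have hxz' : x⁻¹ * z * x = z := by
    calc x⁻¹ * z * x = x⁻¹ * (x * z * x⁻¹) * x := by rw [hxz]
      _ = z := by group
  set g : G := x * w * x⁻¹ with hg
  have hgg : g * g = 1 := by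
    rw [hg]
    calc x * w * x⁻¹ * (x * w * x⁻¹) = x * ((w : G) * w) * x⁻¹ := by group
      _ = 1 := by rw [hww]; group
  have hgz : g * z = z * g := by
    calc g * z = x * (w * (x⁻¹ * z * x)) * x⁻¹ := by rw [hg]; group
      _ = x * (z * w) * x⁻¹ := by rw [hxz', hwz]
      _ = (x * z * x⁻¹) * (x * w * x⁻¹) := by group
      _ = z * g := by rw [hxz]
  have hgt : g * t = t * g := by
    have hwtz : (w : G) * (t * z) = t * z * w := by
      rw [← mul_assoc, hwt, mul_assoc, hwz, mul_assoc]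
    calc g * t = x * (w * (x⁻¹ * t * x)) * x⁻¹ := by rw [hg]; group
      _ = x * (t * z * w) * x⁻¹ := by rw [hxt', hwtz]
      _ = (x * t * x⁻¹) * (x * z * x⁻¹) * (x * w * x⁻¹) := by group
      _ = t * z * z * g := by rw [hxz, hxt]
      _ = t * g := by rw [mul_assoc t, h.zz, mul_one]
  -- `g` inverts `u`
  have hwu : (w : G) * v * (w : G)⁻¹ = (v : G)⁻¹ := by
    rcases sh.inv w (Subtype.ext hwz) with e | e
    · exfalso
      apply sh.kP
      rw [sh.memP]
      have e2 : w * v * w⁻¹ = v := e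
      rw [mul_inv_eq_iff_eq_mul] at e2
      exact e2
    · exact congrArg Subtype.val e
  have hwu' : (w : G) * (v : G)⁻¹ * (w : G)⁻¹ = v := by
    calc (w : G) * (v : G)⁻¹ * (w : G)⁻¹ = ((w : G) * v * (w : G)⁻¹)⁻¹ := by group
      _ = v := by rw [hwu, inv_inv]
  have hgu : g * v * g⁻¹ = (v : G)⁻¹ := by
    have e0 : g * v * g⁻¹ = x * (w * (x⁻¹ * v * x) * (w : G)⁻¹) * x⁻¹ := by rw [hg]; group
    rcases conj_u h sh hxt hxz with e | e
    · have e1 : x⁻¹ * (v : G) * x = v := by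
        calc x⁻¹ * (v : G) * x = x⁻¹ * (x * v * x⁻¹) * x := by rw [e]
          _ = v := by group
      rw [e0, e1, hwu]
      have e2 := congrArg (fun y => y⁻¹) e
      simp only [mul_inv_rev, inv_inv] at e2
      calc x * (v : G)⁻¹ * x⁻¹ = x * ((v : G)⁻¹ * x⁻¹) := by group
        _ = (v : G)⁻¹ := e2
    · have e1 : x⁻¹ * (v : G) * x = (v : G)⁻¹ := by
        calc x⁻¹ * (v : G) * x = x⁻¹ * ((v : G)⁻¹)⁻¹ * x := by rw [inv_inv]
          _ = x⁻¹ * (x * v * x⁻¹)⁻¹ * x := by rw [e]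
          _ = (v : G)⁻¹ := by group
      rw [e0, e1, hwu']
      exact e
  have hαz : al h hgt z = z := by
    apply Subtype.ext
    rw [al_apply, hgz]; group
  have hαu : al h hgt v = v⁻¹ := by
    apply Subtype.ext
    rw [al_apply, hgu]; rfl
  -- `g` is inner on `K`
  obtain ⟨c, hc⟩ : ∃ c : K, al h hgt = MulAut.conj c := by
    by_contra hcon
    push Not at hcon
    obtain ⟨p, hp, hpy⟩ := sh.y3 (al h hgt) hcon hαz hαu
    apply sh.kP
    have fwd : ∀ y, y ∈ P.map K.subtype ↔ x * y * x⁻¹ ∈ P.map K.subtype := fun y => h.conj_P_swap hxt hxz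
    -- `p' = x⁻¹ p x`
    have hp' : x⁻¹ * (p : G) * x ∈ P.map K.subtype := by
      rw [fwd]
      have : x * (x⁻¹ * (p : G) * x) * x⁻¹ = p := by group
      rw [this]
      exact ⟨p, hp, rfl⟩
    obtain ⟨hp1, hp2⟩ := Emb.mem_map.1 hp'
    set p' : K := ⟨x⁻¹ * (p : G) * x, hp1⟩ with hp'def
    have hn : p'⁻¹ * w ∈ R := by
      apply sh.y4
      · have c1 : Commute p' z := sh.basic.cen p' hp2
        have c2 : Commute w z := Subtype.ext hwz
        exact (c1.inv_left.mul_left c2).eq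
      · intro y hy
        obtain ⟨h5, h6⟩ := Emb.mem_map.1 ((fwd y).1 ⟨y, hy, rfl⟩)
        have h7 := hpy ⟨x * y * x⁻¹, h5⟩ h6
        have h8 := conj_R h sh hxt hxz (r := _) ⟨_, h7, rfl⟩
        obtain ⟨h9, h10⟩ := Emb.mem_map.1 h8
        -- `x⁻¹ ((p y' p⁻¹)⁻¹ g y' g⁻¹) x = (p' y p'⁻¹)⁻¹ w y w⁻¹`
        have e1 : (⟨_, h9⟩ : K) = (p' * y * p'⁻¹)⁻¹ * (w * y * w⁻¹) := by
          apply Subtype.ext
          show x⁻¹ * (((p : G) * (x * y * x⁻¹) * (p : G)⁻¹)⁻¹ *
            ((al h hgt ⟨x * y * x⁻¹, h5⟩ : K) : G)) * x =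
            ((x⁻¹ * (p : G) * x) * y * (x⁻¹ * (p : G) * x)⁻¹)⁻¹ * ((w : G) * y * (w : G)⁻¹)
          rw [al_apply, hg]
          group
        rw [e1] at h10
        have h11 := sh.Rn p'⁻¹ (P.inv_mem hp2) _ h10
        have e2 : p'⁻¹ * ((p' * y * p'⁻¹)⁻¹ * (w * y * w⁻¹)) * p'⁻¹⁻¹ = y⁻¹ * (p'⁻¹ * w * y * (p'⁻¹ * w)⁻¹) := by
          group
        rwa [e2] at h11
    have e3 : w = p' * (p'⁻¹ * w) := by group
    show w ∈ P
    rw [e3]
    exact P.mul_mem hp2 (sh.RP hn)
  -- `c` is an involution of `C_K(z) - P`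
  have hcz : c * z = z * c := by
    have e : MulAut.conj c z = z := by rw [← hc]; exact hαz
    rw [MulAut.conj_apply, mul_inv_eq_iff_eq_mul] at e
    exact e
  have hcu : c * v * c⁻¹ = v⁻¹ := by
    have e : MulAut.conj c v = v⁻¹ := by rw [← hc]; exact hαu
    rwa [MulAut.conj_apply] at e
  have hcP : c ∉ P := by
    intro hcP
    apply u_ne_inv sh
    rw [← hcu, (sh.memP c).1 hcP]; group
  have hct : (c : G) * t = t * c := h.st.Kt c c.2
  have hcases := exists_inner h o.Q2 hgt hc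
  have hcc : c * c = 1 := by
    apply Subtype.ext
    show (c : G) * c = 1
    rcases hcases with e | e
    · rw [← e]; exact hgg
    · have e1 : (c : G) = g * t := by rw [e, mul_assoc, h.st.tt, mul_one]
      rw [e1]
      calc g * t * (g * t) = g * (t * g) * t := by group
        _ = g * g * (t * t) := by rw [← hgt]; group
        _ = 1 := by rw [hgg, h.st.tt, one_mul]
  -- `g` is conjugate to `z`
  have hgconj : g = (x * (k : G)⁻¹) * z * (x * (k : G)⁻¹)⁻¹ := by
    rw [hg, hwG]; group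
  rcases sh.y1 c hcz hcP hcc with ⟨d, hdz, hd⟩ | ⟨L, hLs, hLperf, hL1, ⟨m, hm⟩, hLcore⟩
  · -- class 2A
    rcases hcases with e | e
    · -- `g = c`
      have hdt : (d : G) * t = t * d := h.st.Kt d d.2
      have hdz' : (d : G) * z = z * d := congrArg Subtype.val hdz
      exact TypeE.y_trick (t := t) (z := (z : G)) (x := x) (k := (k : G)) (n := (d : G)) hxt hkt hdt hdz' (by
        have e1 : (c : G) = d * ((k : G)⁻¹ * z * k) * (d : G)⁻¹ := congrArg Subtype.val hd
        have e2 : x * ((k : G)⁻¹ * z * k) * x⁻¹ = g := rfl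
        rw [e2, e, e1])
    · -- `g = t c`: `t` would be conjugate to `z`
      exfalso
      have e1 : (c : G) = d * ((k : G)⁻¹ * z * k) * (d : G)⁻¹ := congrArg Subtype.val hd
      have hdt : (d : G) * t = t * d := h.st.Kt d d.2
      -- `g = c t = (d k⁻¹) (z t) (d k⁻¹)⁻¹ = (d k⁻¹ x) t (d k⁻¹ x)⁻¹`
      have hb : ((d : G) * (k : G)⁻¹) * t = t * ((d : G) * (k : G)⁻¹) := by
        have c1 : Commute (d : G) t := hdt
        have c2 : Commute (k : G) t := hkt
        exact (c1.mul_left c2.inv_left).eq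
      have e2 : g = ((d : G) * (k : G)⁻¹ * x) * t * ((d : G) * (k : G)⁻¹ * x)⁻¹ := by
        calc g = c * t := e
          _ = ((d : G) * (k : G)⁻¹) * z * ((d : G) * (k : G)⁻¹)⁻¹ * t := by rw [e1]; group
          _ = ((d : G) * (k : G)⁻¹) * z * (((d : G) * (k : G)⁻¹)⁻¹ * t) := by group
          _ = ((d : G) * (k : G)⁻¹) * z * (t * ((d : G) * (k : G)⁻¹)⁻¹) := by
              rw [(Commute.inv_left (show Commute ((d : G) * (k : G)⁻¹) t from hb)).eq]
          _ = ((d : G) * (k : G)⁻¹) * (z * t) * ((d : G) * (k : G)⁻¹)⁻¹ := by group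
          _ = ((d : G) * (k : G)⁻¹) * (x * t * x⁻¹) * ((d : G) * (k : G)⁻¹)⁻¹ := by rw [hxt, h.comm]
          _ = _ := by group
      apply o.ne ((x * (k : G)⁻¹)⁻¹ * ((d : G) * (k : G)⁻¹ * x))
      calc (x * (k : G)⁻¹)⁻¹ * ((d : G) * (k : G)⁻¹ * x) * t * ((x * (k : G)⁻¹)⁻¹ * ((d : G) * (k : G)⁻¹ * x))⁻¹
          = (x * (k : G)⁻¹)⁻¹ * (((d : G) * (k : G)⁻¹ * x) * t * ((d : G) * (k : G)⁻¹ * x)⁻¹) *
            (x * (k : G)⁻¹) := by group
        _ = (x * (k : G)⁻¹)⁻¹ * g * (x * (k : G)⁻¹) := by rw [← e2]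
        _ = z := by rw [hgconj]; group
  · -- class 2B
    exfalso
    have hF' := hF.conj (x * (k : G)⁻¹)
    rw [← hgconj] at hF'
    have hFs' : ∀ y ∈ F.map (MulAut.conj (x * (k : G)⁻¹)).toMonoidHom, y * g = g * y := by
      rintro _ ⟨y, hy, rfl⟩
      show (x * (k : G)⁻¹) * y * (x * (k : G)⁻¹)⁻¹ * g = g * ((x * (k : G)⁻¹) * y * (x * (k : G)⁻¹)⁻¹)
      rw [hgconj]
      calc (x * (k : G)⁻¹) * y * (x * (k : G)⁻¹)⁻¹ * ((x * (k : G)⁻¹) * z * (x * (k : G)⁻¹)⁻¹)
          = (x * (k : G)⁻¹) * (y * z) * (x * (k : G)⁻¹)⁻¹ := by group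
        _ = (x * (k : G)⁻¹) * (z * y) * (x * (k : G)⁻¹)⁻¹ := by rw [hFz y hy]
        _ = _ := by group
    -- `c ∈ {g, g t}`
    have hcg : ∀ n : G, n * t = t * n → n * g = g * n → n * c = c * n := by
      intro n hnt hng
      rcases hcases with e | e
      · rw [← e]; exact hng
      · have e1 : (c : G) = g * t := by rw [e, mul_assoc, h.st.tt, mul_one]
        rw [e1]
        exact ((show Commute n g from hng).mul_right (show Commute n t from hnt)).eq
    have hgc : ∀ n : G, n * t = t * n → n * c = c * n → n * g = g * n := by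
      intro n hnt hnc
      rcases hcases with e | e
      · rw [e]; exact hnc
      · rw [e]
        exact ((show Commute n c from hnc).mul_right (show Commute n t from hnt)).eq
    have hLt : ∀ l ∈ L.map K.subtype, l * t = t * l := by
      rintro _ ⟨l, -, rfl⟩
      exact h.st.Kt l l.2
    have hLc : ∀ l ∈ L.map K.subtype, l * (c : G) = c * l := by
      rintro _ ⟨l, hl, rfl⟩
      exact congrArg Subtype.val (hLs l hl)
    refine hF'.false_of_L h.st.tt (by exact hgt.symm) (L := L.map K.subtype) hLt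
      (fun l hl => hgc l (hLt l hl) (hLc l hl)) ?_ ?_ hFs' ?_ ?_
    · rw [← map_commutator, hLperf]
    · intro e
      apply hL1
      rw [Subgroup.map_eq_bot_iff_of_injective _ K.subtype_injective] at e
      exact e
    · intro n hnt hng l hl
      have hnc := hcg n hnt hng
      have hnc' : al h hnt c = c := by
        apply Subtype.ext
        rw [al_apply, hnc]; group
      obtain ⟨l', hl', rfl⟩ := hl
      have h12 := map_P (z := c) hLperf hLs ⟨m, hm⟩ (al h hnt) hnc' hl'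
      refine ⟨al h hnt l', h12, ?_⟩
      exact al_apply h hnt l'
    · intro Y hY hY2 hYn
      have h13 : Y.subgroupOf K = ⊥ := by
        apply hLcore
        · intro y hy
          obtain ⟨_, h14⟩ := Emb.mem_map.1 (hY (mem_subgroupOf.1 hy))
          exact h14
        · exact hY2.comap_of_injective K.subtype K.subtype_injective
        · intro l hl b hb
          rw [mem_subgroupOf] at hb ⊢
          exact hYn l ⟨l, hl, rfl⟩ b hb
      rw [eq_bot_iff]
      intro y hy
      have hyK : y ∈ K := map_subtype_le L (hY hy)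
      have h14 : (⟨y, hyK⟩ : K) ∈ Y.subgroupOf K := mem_subgroupOf.2 hy
      rw [h13, mem_bot] at h14
      exact mem_bot.2 (congrArg Subtype.val h14)

/-- `F*(C_G(z))` is a 2-group if `C_G(z)` has no component -/
theorem gfs_eq (C : Iface.Ctx G) {z : G} (hz : orderOf z = 2)
    (hM : ∀ M : Subgroup ↥(centralizer ({z} : Set G)), ¬ IsComponent M) :
    generalizedFittingSubgroup ↥(centralizer ({z} : Set G)) = pCore 2 ↥(centralizer ({z} : Set G)) := by
  have hfin := C.fin
  have hbot := MainE.core_eq_bot C hz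
  have hlay : layer ↥(centralizer ({z} : Set G)) = ⊥ := by
    unfold layer
    rw [sSup_eq_bot]
    intro M hMc
    exact absurd hMc (hM M)
  unfold generalizedFittingSubgroup
  rw [hlay, bot_sup_eq]
  exact Cfsg.Agent.SignalizersComponents.PConstrained.fittingSubgroup_eq_pCore_of_pPrimeCore_eq_bot 2 hbot

/-- the data in `G` -/
theorem data (C : Iface.Ctx G) (o : Out K t q z P) (sh : SheetHS z v k P R)
    (hM : ∀ M : Subgroup ↥(centralizer ({(z : G)} : Set G)), ¬ IsComponent M) :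
    TypeHS.Data t (z : G) (v : G) (P.map K.subtype) (R.map K.subtype) (Loc.FS (z : G)) := by
  have hfin := C.fin
  have h := o.emb
  have hbot := MainE.core_eq_bot C (MainE.orderOf_z h)
  have hlay : layer ↥(centralizer ({(z : G)} : Set G)) = ⊥ := by
    unfold layer
    rw [sSup_eq_bot]
    intro M hMc
    exact absurd hMc (hM M)
  have hself := (Cfsg.Agent.SignalizersComponents.PConstrained.centralizer_pCore_le_iff_layer_eq_bot 2
    hbot).2 hlay
  have hFS : Loc.FS (z : G) = (pCore 2 ↥(centralizer ({(z : G)} : Set G))).map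
      (centralizer ({(z : G)} : Set G)).subtype := by
    unfold Loc.FS
    rw [gfs_eq C (MainE.orderOf_z h) hM]
  have hPz : ∀ p ∈ P.map K.subtype, p * (z : G) = z * p := by
    rintro _ ⟨p, hp, rfl⟩
    exact congrArg Subtype.val (sh.basic.cen p hp)
  have hPt : ∀ p ∈ P.map K.subtype, p * t = t * p := by
    rintro _ ⟨p, -, rfl⟩
    exact h.st.Kt p p.2
  have hvz : (v : G) * z = z * v := hPz v ⟨v, sh.RP sh.uR, rfl⟩
  have huu : (v : G) * v = z := congrArg Subtype.val sh.uu
  have hvinv : (v : G)⁻¹ = v * z := by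
    rw [inv_eq_iff_mul_eq_one, ← mul_assoc, huu, h.zz]
  -- subgroups of `C_K(z)`
  have hsub : ∀ Y : Subgroup G, Y ≤ K →
      (∀ n, n * t = t * n → n * z = z * n → ∀ y ∈ Y, n * y * n⁻¹ ∈ Y) →
      (∀ x ∈ P, ∀ b ∈ Y.subgroupOf K, x * b * x⁻¹ ∈ Y.subgroupOf K) ∧
      (Y.subgroupOf K).map K.subtype = Y := by
    intro Y hY hn
    refine ⟨?_, ?_⟩
    · intro x hx b hb
      rw [mem_subgroupOf] at hb ⊢
      exact hn x (h.st.Kt x x.2) (congrArg Subtype.val (sh.basic.cen x hx)) b hb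
    · rw [subgroupOf_map_subtype, inf_eq_left]
      exact hY
  rw [hFS]
  exact
    { tt := h.st.tt
      zz := h.zz
      z1 := h.z1
      comm := h.comm
      pF := (Cfsg.Agent.Lib.Cores.pCore_isPGroup 2).map _
      leF := by
        rintro _ ⟨x, -, rfl⟩
        exact mem_centralizer_singleton_iff.1 x.2
      norF := by
        rintro g hg _ ⟨x, hx, rfl⟩
        exact ⟨⟨g, mem_centralizer_singleton_iff.2 hg⟩ * x * ⟨g, mem_centralizer_singleton_iff.2 hg⟩⁻¹,
          (Cfsg.Agent.Lib.Cores.pCore_normal 2).conj_mem x hx _, rfl⟩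
      selfF := by
        intro g hg hc
        refine ⟨⟨g, mem_centralizer_singleton_iff.2 hg⟩, hself ?_, rfl⟩
        rw [mem_centralizer_iff]
        intro x hx
        exact Subtype.ext (hc x ⟨x, hx, rfl⟩).symm
      Pt := hPt
      Pz := hPz
      norP := fun n hnt hnz p hp => h.conj_P hnt hnz hp
      perf := by rw [← map_commutator, sh.perf]
      RP := map_mono sh.RP
      uR := ⟨v, sh.uR, rfl⟩
      uu := huu
      uP := by
        rintro _ ⟨p, hp, rfl⟩
        exact congrArg Subtype.val ((sh.memP p).1 hp)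
      core := by
        intro Y hY hY2 hn
        obtain ⟨h2, h3⟩ := hsub Y (hY.trans (map_subtype_le _)) hn
        rw [← h3]
        refine map_mono (sh.core _ ?_ ?_ h2)
        · intro y hy
          obtain ⟨_, h5⟩ := Emb.mem_map.1 (hY (mem_subgroupOf.1 hy))
          exact mem_centralizer_singleton_iff.2 (sh.basic.cen y h5)
        · exact hY2.comap_of_injective K.subtype K.subtype_injective
      irr := by
        intro Y hY hn
        obtain ⟨h2, h3⟩ := hsub Y (hY.trans (map_subtype_le _)) hn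
        have h4 : Y.subgroupOf K ≤ R := by
          intro y hy
          obtain ⟨_, h5⟩ := Emb.mem_map.1 (hY (mem_subgroupOf.1 hy))
          exact h5
        rcases sh.subs _ h4 h2 with h5 | h5
        · left
          intro y hy
          rw [← h3] at hy
          obtain ⟨b, hb, rfl⟩ := hy
          rcases h5 b hb with e | e | e | e
          · exact Or.inl (congrArg Subtype.val e)
          · exact Or.inr (Or.inr (Or.inl (congrArg Subtype.val e)))
          · exact Or.inr (Or.inl (congrArg Subtype.val e))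
          · refine Or.inr (Or.inr (Or.inr ?_))
            rw [← hvinv]
            exact congrArg Subtype.val e
        · right
          rw [← h3, h5]
      cR := by
        rintro _ ⟨x, hx, rfl⟩ hc
        rcases sh.cR x (sh.RP hx) (fun r hr => Subtype.ext (hc r ⟨r, hr, rfl⟩)) with e | e | e | e
        · exact Or.inl (congrArg Subtype.val e)
        · exact Or.inr (Or.inr (Or.inl (congrArg Subtype.val e)))
        · exact Or.inr (Or.inl (congrArg Subtype.val e))
        · refine Or.inr (Or.inr (Or.inr ?_))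
          rw [← hvinv]
          exact congrArg Subtype.val e
      cardR := by
        rw [← sh.cardR]
        exact Nat.card_congr (R.equivMapOfInjective _ K.subtype_injective).symm.toEquiv
      out := by
        intro n hn2 hnt hnz hc
        have hα2 : IsPGroup 2 (zpowers (al h hnt)) := isPGroup_nmh (h.nor hnt) hn2
        have hαz : al h hnt z = z := by
          apply Subtype.ext
          rw [al_apply, hnz]; group
        rcases sh.aut (al h hnt) hα2 hαz (by
          intro x hx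
          obtain ⟨r, hr, e⟩ := hc x ⟨x, hx, rfl⟩
          have e1 : x⁻¹ * al h hnt x = x⁻¹ * r * x⁻¹⁻¹ := by
            apply Subtype.ext
            show (x : G)⁻¹ * ((al h hnt x : K) : G) = (x : G)⁻¹ * (r : G) * (x : G)⁻¹⁻¹
            have e' : (r : G) = n * (x : G) * n⁻¹ * (x : G)⁻¹ := e
            rw [al_apply, e']; group
          rw [e1]
          exact sh.Rn _ (P.inv_mem hx) r hr) with ⟨r, hr, e⟩ | e
        · rcases exists_inner h o.Q2 hnt e with e1 | e1
          · left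
            rw [e1]; exact ⟨r, hr, rfl⟩
          · right; left
            have h2 : (r : G) * t = t * r := h.st.Kt r r.2
            have h3 : t * n = r := by rw [e1, h2, ← mul_assoc, h.st.tt, one_mul]
            rw [h3]; exact ⟨r, hr, rfl⟩
        · right; right
          have e1 := congrArg Subtype.val e
          rw [al_apply] at e1
          exact e1 }

/-- **The conclusion**: `F*(C_G(z))` is of symplectic type and not extraspecial. -/
theorem concl (C : Iface.Ctx G) (o : Out K t q z P) (sh : SheetHS z v k P R)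
    (hM : ∀ M : Subgroup ↥(centralizer ({(z : G)} : Set G)), ¬ IsComponent M) :
    IsOfSymplecticType ↥(generalizedFittingSubgroup ↥(centralizer ({(z : G)} : Set G))) ∧
      ¬ IsExtraspecial 2 ↥(generalizedFittingSubgroup ↥(centralizer ({(z : G)} : Set G))) := by
  have hfin := C.fin
  have h := o.emb
  have D := data C o sh hM
  obtain ⟨y, hyz, hyt⟩ := exists_y o sh D.fs D.leF
  have hxz : (k : G) * z * (k : G)⁻¹ * z = z * ((k : G) * z * (k : G)⁻¹) := congrArg Subtype.val sh.kz'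
  -- `t ∉ F`
  have htF : t ∉ Loc.FS (z : G) := by
    refine D.t_notMem (M := (centralizer ({z} : Set K)).map K.subtype) ?_ ?_ hyz hyt
      ⟨k * z * k⁻¹, mem_centralizer_singleton_iff.2 sh.kz', rfl⟩ ?_
    · rintro n hnt hnz _ ⟨x, hx, rfl⟩
      refine ⟨al h hnt x, ?_, al_apply h hnt x⟩
      have hnz' : al h hnt z = z := by
        apply Subtype.ext
        rw [al_apply, hnz]; group
      refine mem_centralizer_singleton_iff.2 ?_
      have h1 : al h hnt (x * z) = al h hnt (z * x) := by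
        rw [mem_centralizer_singleton_iff.1 hx]
      rwa [map_mul, map_mul, hnz'] at h1
    · intro Y hY hY2 hn
      have hYK : Y ≤ K := hY.trans (map_subtype_le _)
      have h3 : (Y.subgroupOf K).map K.subtype = Y := by
        rw [subgroupOf_map_subtype, inf_eq_left]
        exact hYK
      rw [← h3]
      refine map_mono (sh.core _ ?_ ?_ ?_)
      · intro y hy
        obtain ⟨_, h5⟩ := Emb.mem_map.1 (hY (mem_subgroupOf.1 hy))
        exact h5
      · exact hY2.comap_of_injective K.subtype K.subtype_injective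
      · intro x hx b hb
        rw [mem_subgroupOf] at hb ⊢
        exact hn x (h.st.Kt x x.2) (congrArg Subtype.val (sh.basic.cen x hx)) b hb
    · intro hR
      obtain ⟨_, h5⟩ := Emb.mem_map.1 (map_mono sh.RP hR)
      exact sh.kP' h5
  obtain ⟨r₁, hr₁, r₂, hr₂, s₁, s₂, hs₁, hs₂, h₁, h₂, h₁₂, n₁, n₂, n₁₂⟩ := sh.y5
  have hab : Loc.Hyp t (z : G) (v : G) (centralizer ({t} : Set G) ⊓ centralizer ({(z : G)} : Set G))
      (Loc.FS (z : G)) :=
    { tt := D.tt
      zz := D.zz
      z1 := D.z1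
      comm := D.comm
      pF := D.pF
      le := D.leF
      nor := D.norF
      self := D.selfF
      hN := by
        intro n hn
        refine ⟨mem_centralizer_singleton_iff.1 hn.2, Or.inl ?_⟩
        rw [mem_centralizer_singleton_iff.1 hn.1]; group
      uu := D.uu
      ab := by
        intro B hB hBt hBab hBn b hb
        rcases D.ab htF B hB hBt hBab (fun n hnt hnz => hBn n ⟨mem_centralizer_singleton_iff.2 hnt,
          mem_centralizer_singleton_iff.2 hnz⟩) b hb with e | e | e | e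
        · exact Or.inl e
        · exact Or.inr (Or.inr (Or.inl e))
        · exact Or.inr (Or.inl e)
        · exact Or.inr (Or.inr (Or.inr e)) }
  have hRF : ∀ r ∈ R, (r : G) ∈ Loc.FS (z : G) := fun r hr => D.R_le_F ⟨r, hr, rfl⟩
  have hS : Loc.Sing ((k : G) * z * (k : G)⁻¹) (r₁ : G) (r₂ : G) (z : G) := by
    have e₁ : (k : G) * z * (k : G)⁻¹ * r₁ * ((k : G) * z * (k : G)⁻¹)⁻¹ * (r₁ : G)⁻¹ = s₁ :=
      congrArg Subtype.val hs₁
    have e₂ : (k : G) * z * (k : G)⁻¹ * r₂ * ((k : G) * z * (k : G)⁻¹)⁻¹ * (r₂ : G)⁻¹ = s₂ :=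
      congrArg Subtype.val hs₂
    have key : ∀ a b : K, a ≠ b → (a : G) ≠ b := fun a b hab e => hab (Subtype.ext e)
    exact
      { c2 := by rw [e₁]; exact congrArg Subtype.val h₁
        d2 := by rw [e₂]; exact congrArg Subtype.val h₂
        cd2 := by rw [e₁, e₂]; exact congrArg Subtype.val h₁₂
        c1 := by rw [e₁]; exact key _ _ n₁.1
        cz := by rw [e₁]; exact key _ _ n₁.2
        d1 := by rw [e₂]; exact key _ _ n₂.1
        dz := by rw [e₂]; exact key _ _ n₂.2
        cd1 := by rw [e₁, e₂]; exact key _ _ n₁₂.1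
        cdz := by rw [e₁, e₂]; exact key _ _ n₁₂.2 }
  rcases Loc.concl hab (x := (k : G) * z * (k : G)⁻¹) (r := (r₁ : G)) (s := (r₂ : G)) hyz hyt
    (h.st.Kt _ (k * z * k⁻¹).2) hxz (hRF r₁ hr₁) (hRF r₂ hr₂) (h.st.Kt r₁ r₁.2) (h.st.Kt r₂ r₂.2)
    hS with ⟨lam, hl⟩ | hc
  · exfalso
    have h1 : commutator (centralizer ({(z : G)} : Set G)) ≤ lam.ker :=
      Abelianization.commutator_subset_ker lam
    have h2 : lam ⟨t, mem_centralizer_singleton_iff.2 D.comm⟩ = 1 := h1 o.com
    rw [h2] at hl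
    exact (by decide : (1 : ℤˣ) ≠ -1) hl
  · exact hc

end Cfsg.Agent.OddHalf.D8.HS.Glue

end

-- merged: Cfsg.Agent.OddHalf.D8.HS.GlueM
section

/-!
# ODD half, D8, `K = HS`, case (M): from the sheet of `K` to `X = C_G(z)` (helper970)
-/

set_option autoImplicit false

namespace Cfsg.Agent.OddHalf.D8.HS.GlueM

open Subgroup Cfsg Cfsg.Agent.OddHalf.Front.FE Cfsg.Agent.OddHalf.D8.Sheet Cfsg.Agent.OddHalf.D8.GlueE
  Cfsg.Agent.OddHalf.D8.Front Cfsg.Agent.OddHalf.D8.HS.SheetHS
open Cfsg.Agent.OddHalf.CaseM (toX mem_toX map_le_cent map_toX)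

/-- the additional facts on `HS` for case (M) -/
structure SheetHSM {K : Type*} [Group K] (z u k : K) (P R : Subgroup K) : Prop where
  two : ∃ n : ℕ, (MulAut.conj : K →* MulAut K).range.index = 2 ^ n
  /-- `P/R` is simple -/
  max : ∀ N : Subgroup K, R ≤ N → N ≤ P → (∀ p ∈ P, ∀ n ∈ N, p * n * p⁻¹ ∈ N) → N = R ∨ N = P
  /-- `w u` is conjugate to an element of `P` -/
  k0 : ∃ c : K, c * (k⁻¹ * z * k * u) * c⁻¹ ∈ P
  /-- two classes of involutions -/
  inv2 : ∀ x : K, x * x = 1 → x ≠ 1 → (∃ c, x = c * z * c⁻¹) ∨ ∃ c, x = c * (k⁻¹ * z * k * u) * c⁻¹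
  /-- a conjugate of `u` which commutes with `u` and has another square (in `4³`) -/
  cj : ∃ j : K, j * u * j⁻¹ * u = u * (j * u * j⁻¹) ∧ j * z * j⁻¹ ≠ z

section KLevel

variable {K : Type*} [Group K] {z u k : K} {P R : Subgroup K}

theorem R2 (sh : SheetHS z u k P R) : IsPGroup 2 R := IsPGroup.of_card (n := 6) (by rw [sh.cardR]; norm_num)

theorem map_R (sh : SheetHS z u k P R) (α : MulAut K) (hα : α z = z) {r : K} (hr : r ∈ R) : α r ∈ R := by
  have hα' : α⁻¹ z = z := by
    have h1 : α⁻¹ (α z) = z := MulAut.inv_apply_self K α z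
    rwa [hα] at h1
  have h1 : R.map α.toMonoidHom ≤ R := by
    apply sh.core
    · rintro _ ⟨r, hr, rfl⟩
      rw [mem_centralizer_singleton_iff]
      have h2 : α (r * z) = α (z * r) := by rw [sh.basic.cen r (sh.RP hr)]
      rw [map_mul, map_mul, hα] at h2
      exact h2
    · exact (R2 sh).map _
    · rintro x hx _ ⟨r, hr, rfl⟩
      have hx' : α⁻¹ x ∈ P := map_P sh.perf sh.basic.cen sh.der α⁻¹ hα' hx
      refine ⟨α⁻¹ x * r * (α⁻¹ x)⁻¹, sh.Rn _ hx' r hr, ?_⟩
      show α (α⁻¹ x * r * (α⁻¹ x)⁻¹) = x * α r * x⁻¹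
      rw [map_mul, map_mul, map_inv, MulAut.apply_inv_self]
  exact h1 ⟨r, hr, rfl⟩

theorem pow_triv (sh : SheetHS z u k P R) (α : MulAut K) (hα : α z = z) (hP : ∀ x ∈ P, x⁻¹ * α x ∈ R) (n : ℕ) :
    (α ^ n) z = z ∧ ∀ x ∈ P, x⁻¹ * (α ^ n) x ∈ R := by
  induction n with
  | zero =>
    rw [pow_zero]
    refine ⟨rfl, fun x _ => ?_⟩
    rw [MulAut.one_apply, inv_mul_cancel]
    exact R.one_mem
  | succ n ih =>
    rw [pow_succ']
    refine ⟨by rw [MulAut.mul_apply, ih.1, hα], fun x hx => ?_⟩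
    have h1 := map_R sh α hα (ih.2 x hx)
    rw [map_mul, map_inv] at h1
    have e : x⁻¹ * (α * α ^ n) x = (x⁻¹ * α x) * ((α x)⁻¹ * α ((α ^ n) x)) := by
      rw [MulAut.mul_apply]; group
    rw [e]
    exact R.mul_mem (hP x hx) h1

/-- automorphisms of odd order trivial on `P/R` -/
theorem aut_odd [Finite K] (sh : SheetHS z u k P R) (m : SheetHSM z u k P R) (α : MulAut K)
    (ho : Odd (orderOf α)) (hα : α z = z) (hP : ∀ x ∈ P, x⁻¹ * α x ∈ R) : α = 1 := by
  obtain ⟨n, hn⟩ := m.two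
  have hnorm : ((MulAut.conj : K →* MulAut K).range).Normal := by
    constructor
    rintro _ ⟨k, rfl⟩ φ
    refine ⟨φ k, ?_⟩
    apply MulEquiv.ext
    intro x
    rw [MulAut.mul_apply, MulAut.mul_apply, MulAut.conj_apply, MulAut.conj_apply, map_mul, map_mul, map_inv,
      MulAut.apply_inv_self]
  have h1 : α ^ (2 ^ n) ∈ (MulAut.conj : K →* MulAut K).range := by
    rw [← hn]; exact pow_index_mem _ _
  have hcop : ∀ k : ℕ, (orderOf α).Coprime (2 ^ k) := fun k =>
    Nat.Coprime.pow_right k ((Nat.coprime_two_right).2 ho)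
  obtain ⟨j, hj⟩ := exists_pow_eq_self_of_coprime (hcop n).symm
  have h2 : α ∈ (MulAut.conj : K →* MulAut K).range := by
    rw [← hj]; exact pow_mem h1 j
  obtain ⟨c, rfl⟩ := h2
  have hcz : c * z = z * c := by
    rw [MulAut.conj_apply, mul_inv_eq_iff_eq_mul] at hα
    exact hα
  have hcR : c ∈ R := sh.y4 c hcz (fun y hy => hP y hy)
  obtain ⟨l, hl⟩ := R2 sh ⟨c, hcR⟩
  have h5 : c ^ (2 ^ l) = 1 := congrArg Subtype.val hl
  have h6 : (MulAut.conj c) ^ (2 ^ l) = 1 := by rw [← map_pow, h5, map_one]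
  have h7 := orderOf_dvd_of_pow_eq_one h6
  exact orderOf_eq_one_iff.1 (Nat.eq_one_of_dvd_coprimes (hcop l) dvd_rfl h7)

/-- automorphisms trivial on `P/R` -/
theorem aut' [Finite K] (sh : SheetHS z u k P R) (m : SheetHSM z u k P R) (α : MulAut K)
    (hα : α z = z) (hP : ∀ x ∈ P, x⁻¹ * α x ∈ R) : (∃ r ∈ R, α = MulAut.conj r) ∨ α u = u⁻¹ := by
  have : Finite (MulAut K) := Finite.of_injective (fun φ : MulAut K => (φ : K → K)) DFunLike.coe_injective
  obtain ⟨i, l, hl, hil⟩ := Nat.exists_eq_two_pow_mul_odd (orderOf_pos α).ne'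
  have h1 : α ^ (2 ^ i) = 1 := by
    obtain ⟨h2, h3⟩ := pow_triv sh α hα hP (2 ^ i)
    apply aut_odd sh m _ ?_ h2 h3
    rw [orderOf_pow, hil, Nat.gcd_mul_right_left, Nat.mul_div_cancel_left _ (pow_pos two_pos i)]
    exact hl
  apply sh.aut α ?_ hα hP
  have : Fact (Nat.Prime 2) := ⟨Nat.prime_two⟩
  obtain ⟨j, -, hj⟩ := (Nat.dvd_prime_pow Nat.prime_two).1 (orderOf_dvd_of_pow_eq_one h1)
  exact IsPGroup.of_card (by rw [Nat.card_zpowers, hj])

theorem Rna (sh : SheetHS z u k P R) : ∃ a ∈ R, ∃ b ∈ R, a * b ≠ b * a := by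
  by_contra hcon
  push Not at hcon
  have h1 : (R : Set K) ⊆ ({1, z, u, u⁻¹} : Set K) := by
    intro x hx
    have := sh.cR x (sh.RP hx) (fun r hr => hcon x hx r hr)
    simpa using this
  have h2 : Nat.card R ≤ ({1, z, u, u⁻¹} : Set K).ncard := by
    rw [show Nat.card R = (R : Set K).ncard from Nat.card_coe_set_eq _]
    exact Set.ncard_le_ncard h1 (Set.toFinite _)
  have h3 : ({1, z, u, u⁻¹} : Set K).ncard ≤ 4 := by
    classical
    have e : ({1, z, u, u⁻¹} : Set K) = ↑({1, z, u, u⁻¹} : Finset K) := by simp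
    rw [e, Set.ncard_coe_finset]
    exact Finset.card_le_four
  rw [sh.cardR] at h2
  omega

/-- a normal supplement of a 2-group in a perfect group -/
theorem le_of_sup [Finite K] {P B R : Subgroup K} (hp : ⁅P, P⁆ = P) (hB : B ≤ P) (hRP : R ≤ P)
    (hR2 : IsPGroup 2 R) (hBn : ∀ p ∈ P, ∀ b ∈ B, p * b * p⁻¹ ∈ B) (h1 : B ⊔ R = P) : P ≤ B := by
  have hnorm : (B.subgroupOf P).Normal := ⟨fun n hn g => hBn g g.2 n hn⟩
  have hsup : B.subgroupOf P ⊔ R.subgroupOf P = ⊤ := by
    apply map_injective P.subtype_injective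
    rw [Subgroup.map_sup, subgroupOf_map_subtype, subgroupOf_map_subtype, inf_of_le_left hB,
      inf_of_le_left hRP, h1, ← MonoidHom.range_eq_map, range_subtype]
  have hperf : commutator P = ⊤ := by
    rw [_root_.commutator_def]
    apply map_injective P.subtype_injective
    rw [map_commutator, ← MonoidHom.range_eq_map, range_subtype, hp]
  have : Fact (Nat.Prime 2) := ⟨Nat.prime_two⟩
  let π := QuotientGroup.mk' (B.subgroupOf P)
  have hsurj : (R.subgroupOf P).map π = ⊤ := by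
    have h3 := congrArg (Subgroup.map π) hsup
    rw [Subgroup.map_sup, (QuotientGroup.map_mk'_self (B.subgroupOf P)), bot_sup_eq,
      ← MonoidHom.range_eq_map, MonoidHom.range_eq_top.2 (QuotientGroup.mk'_surjective _)] at h3
    exact h3
  have hR2' : IsPGroup 2 (R.subgroupOf P) := hR2.comap_subtype
  have h2g : IsPGroup 2 ((R.subgroupOf P).map π) := hR2'.map π
  rw [hsurj] at h2g
  have hperf' : ⁅(⊤ : Subgroup (P ⧸ B.subgroupOf P)), (⊤ : Subgroup (P ⧸ B.subgroupOf P))⁆ =
      (⊤ : Subgroup (P ⧸ B.subgroupOf P)) := by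
    have h4 := congrArg (Subgroup.map π) hperf
    rw [_root_.commutator_def, map_commutator, ← MonoidHom.range_eq_map,
      MonoidHom.range_eq_top.2 (QuotientGroup.mk'_surjective _)] at h4
    exact h4
  have h5 := CaseM.eq_bot_of_perfect_two hperf' h2g
  intro x hx
  have h6 : π ⟨x, hx⟩ ∈ (⊤ : Subgroup (P ⧸ B.subgroupOf P)) := mem_top _
  rw [h5, mem_bot] at h6
  have h7 : (⟨x, hx⟩ : P) ∈ B.subgroupOf P := (QuotientGroup.eq_one_iff (N := B.subgroupOf P) _).1 h6
  exact mem_subgroupOf.1 h7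

/-- normal subgroups of `P` -/
theorem nrm [Finite K] (sh : SheetHS z u k P R) (m : SheetHSM z u k P R) {B : Subgroup K} (hB : B ≤ P)
    (hBn : ∀ p ∈ P, ∀ b ∈ B, p * b * p⁻¹ ∈ B) : B = P ∨ B ≤ R := by
  rcases m.max (B ⊔ R) le_sup_right (sup_le hB sh.RP) (by
    intro g hg n hn
    have h1 : (B ⊔ R).map (MulAut.conj g).toMonoidHom ≤ B ⊔ R := by
      rw [Subgroup.map_sup]
      apply sup_le_sup
      · rintro _ ⟨x, hx, rfl⟩
        exact hBn g hg x hx
      · rintro _ ⟨x, hx, rfl⟩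
        exact sh.Rn g hg x hx
    exact h1 ⟨n, hn, rfl⟩) with h1 | h1
  · right
    rw [← h1]
    exact le_sup_left
  · left
    exact le_antisymm hB (le_of_sup sh.perf hB sh.RP (R2 sh) hBn h1)

end KLevel

universe u

variable {G : Type u} [Group G] {K : Subgroup G} {t q : G} {z v k : K} {P R : Subgroup K}

/-- back from `X = C_G(z)` to `K` -/
def frX (z : K) (B : Subgroup ↥(centralizer ({(z : G)} : Set G))) : Subgroup K :=
  (B.map (centralizer ({(z : G)} : Set G)).subtype).subgroupOf K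

theorem mem_frX {B : Subgroup ↥(centralizer ({(z : G)} : Set G))} {x : K} :
    x ∈ frX z B ↔ ∃ y ∈ B, (y : G) = x := by
  unfold frX
  rw [mem_subgroupOf]
  exact Iff.rfl

theorem toX_frX {B : Subgroup ↥(centralizer ({(z : G)} : Set G))} {P : Subgroup K} (hB : B ≤ toX z P) :
    toX z (frX z B) = B := by
  ext x
  rw [mem_toX, Emb.mem_map]
  constructor
  · rintro ⟨h1, h2⟩
    obtain ⟨y, hy, hyx⟩ := mem_frX.1 h2
    have : y = x := Subtype.ext hyx
    rwa [← this]
  · intro hx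
    obtain ⟨h1, -⟩ := Emb.mem_map.1 (mem_toX.1 (hB hx))
    exact ⟨h1, mem_frX.2 ⟨x, hx, rfl⟩⟩

theorem frX_le {B : Subgroup ↥(centralizer ({(z : G)} : Set G))} {P : Subgroup K} (hB : B ≤ toX z P) :
    frX z B ≤ P := by
  intro x hx
  obtain ⟨y, hy, hyx⟩ := mem_frX.1 hx
  obtain ⟨h1, h2⟩ := Emb.mem_map.1 (mem_toX.1 (hB hy))
  have : x = ⟨y, h1⟩ := Subtype.ext hyx.symm
  rwa [this]

theorem res' [Finite G] (h : Emb K t q z P)
    {S : Subgroup ↥(centralizer ({(z : G)} : Set G))} (hSt : ∀ x ∈ S, (x : G) * t = t * x)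
    (hp : ⁅S, S⁆ = S) : S ≤ toX z P := by
  obtain ⟨n, hn⟩ := h.dser_eq
  have h1 : S.map (centralizer ({(z : G)} : Set G)).subtype ≤ centralizer ({t} : Set G) ⊓ centralizer ({(z : G)} : Set G) := by
    rintro _ ⟨x, hx, rfl⟩
    exact ⟨mem_centralizer_singleton_iff.2 (hSt x hx), x.2⟩
  have h2 := TR.dser_mono n h1
  have hp' : ⁅S.map (centralizer ({(z : G)} : Set G)).subtype, S.map (centralizer ({(z : G)} : Set G)).subtype⁆ =
      S.map (centralizer ({(z : G)} : Set G)).subtype := by rw [← map_commutator, hp]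
  rw [TR.dser_of_perfect n hp', hn] at h2
  intro x hx
  exact h2 ⟨x, hx, rfl⟩

/-- elements of `C(t) ∩ C(z)` trivial on `P/R` -/
theorem out_of [Finite G] (o : Out K t q z P) (sh : SheetHS z v k P R) (m : SheetHSM z v k P R) {n : G}
    (hnt : n * t = t * n) (hnz : n * z = z * n)
    (hc : ∀ p ∈ P.map K.subtype, n * p * n⁻¹ * p⁻¹ ∈ R.map K.subtype) :
    n ∈ R.map K.subtype ∨ t * n ∈ R.map K.subtype ∨ n * v * n⁻¹ = (v : G)⁻¹ := by
  have h := o.emb
  have hαz : Glue.al h hnt z = z := by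
    apply Subtype.ext
    rw [Glue.al_apply, hnz]; group
  rcases aut' sh m (Glue.al h hnt) hαz (by
    intro x hx
    obtain ⟨r, hr, e⟩ := hc x ⟨x, hx, rfl⟩
    have e1 : x⁻¹ * Glue.al h hnt x = x⁻¹ * r * x⁻¹⁻¹ := by
      apply Subtype.ext
      show (x : G)⁻¹ * ((Glue.al h hnt x : K) : G) = (x : G)⁻¹ * (r : G) * (x : G)⁻¹⁻¹
      have e' : (r : G) = n * (x : G) * n⁻¹ * (x : G)⁻¹ := e
      rw [Glue.al_apply, e']; group
    rw [e1]
    exact sh.Rn _ (P.inv_mem hx) r hr) with ⟨r, hr, e⟩ | e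
  · rcases Glue.exists_inner h o.Q2 hnt e with e1 | e1
    · left
      rw [e1]; exact ⟨r, hr, rfl⟩
    · right; left
      have h2 : (r : G) * t = t * r := h.st.Kt r r.2
      have h3 : t * n = r := by rw [e1, h2, ← mul_assoc, h.st.tt, one_mul]
      rw [h3]; exact ⟨r, hr, rfl⟩
  · right; right
    have e1 := congrArg Subtype.val e
    rw [Glue.al_apply] at e1
    exact e1

theorem mem_zpowers_of (sh : SheetHS z v k P R) {x : G}
    (hx : x = 1 ∨ x = z ∨ x = v ∨ x = (v : G)⁻¹) : x ∈ zpowers (v : G) := by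
  have huu : (v : G) * v = z := congrArg Subtype.val sh.uu
  rcases hx with e | e | e | e <;> rw [e]
  · exact one_mem _
  · rw [← huu]; exact mul_mem (mem_zpowers _) (mem_zpowers _)
  · exact mem_zpowers _
  · exact inv_mem (mem_zpowers _)

/-- elements of `C(t) ∩ C(z)` centralising `R` -/
theorem cR_of [Finite G] (o : Out K t q z P) (sh : SheetHS z v k P R) (m : SheetHSM z v k P R) {x : G}
    (hxt : x * t = t * x) (hxz : x * z = z * x) (hxR : ∀ r ∈ R.map K.subtype, x * r = r * x) :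
    x ∈ zpowers (v : G) ∨ t * x ∈ zpowers (v : G) := by
  have h := o.emb
  have huG : ∀ r ∈ R, (∀ s ∈ R, r * s = s * r) → (r : G) ∈ zpowers (v : G) := by
    intro r hr hrs
    apply mem_zpowers_of sh
    rcases sh.cR r (sh.RP hr) hrs with e | e | e | e
    · exact Or.inl (congrArg Subtype.val e)
    · exact Or.inr (Or.inl (congrArg Subtype.val e))
    · exact Or.inr (Or.inr (Or.inl (congrArg Subtype.val e)))
    · exact Or.inr (Or.inr (Or.inr (congrArg Subtype.val e)))
  rcases out_of o sh m hxt hxz (by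
    rintro _ ⟨p, hp, rfl⟩
    obtain ⟨p', hp', hpp⟩ := h.conj_P hxt hxz (x := (p : G)) ⟨p, hp, rfl⟩
    have hpp' : (p' : G) = x * p * x⁻¹ := hpp
    -- `p' p⁻¹` centralises `R`
    have h1 : ∀ s ∈ R, (p' * p⁻¹) * s = s * (p' * p⁻¹) := by
      intro s hs
      apply Subtype.ext
      change (p' : G) * (p : G)⁻¹ * s = s * ((p' : G) * (p : G)⁻¹)
      have h3 : x * ((p : G)⁻¹ * s * p) = ((p : G)⁻¹ * s * p) * x := by
        have h2 := hxR _ ⟨p⁻¹ * s * p⁻¹⁻¹, sh.Rn _ (P.inv_mem hp) s hs, rfl⟩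
        rw [inv_inv] at h2
        exact h2
      have h4 : x * (s : G) = s * x := hxR _ ⟨s, hs, rfl⟩
      have h5 : (x : G)⁻¹ * s * x = s := by
        rw [mul_assoc, ← h4]; group
      rw [hpp']
      calc x * p * x⁻¹ * (p : G)⁻¹ * s = x * p * x⁻¹ * ((p : G)⁻¹ * s * p) * (p : G)⁻¹ := by group
        _ = x * p * x⁻¹ * (x * ((p : G)⁻¹ * s * p) * x⁻¹) * (p : G)⁻¹ := by rw [h3]; group
        _ = x * s * p * x⁻¹ * (p : G)⁻¹ := by group
        _ = s * x * p * x⁻¹ * (p : G)⁻¹ := by rw [h4]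
        _ = s * (x * p * x⁻¹ * (p : G)⁻¹) := by group
    have h2 : p' * p⁻¹ ∈ R := by
      rcases sh.cR _ (P.mul_mem hp' (P.inv_mem hp)) h1 with e | e | e | e
      · rw [e]; exact R.one_mem
      · rw [e, ← sh.uu]; exact R.mul_mem sh.uR sh.uR
      · rw [e]; exact sh.uR
      · rw [e]; exact R.inv_mem sh.uR
    refine ⟨p' * p⁻¹, h2, ?_⟩
    change (p' : G) * (p : G)⁻¹ = x * (p : G) * x⁻¹ * (p : G)⁻¹
    rw [hpp']) with ⟨r, hr, e⟩ | ⟨r, hr, e⟩ | e
  · left
    have e' : (r : G) = x := e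
    rw [← e']
    apply huG r hr
    intro s hs
    apply Subtype.ext
    change (r : G) * s = s * r
    rw [e']
    exact hxR _ ⟨s, hs, rfl⟩
  · right
    have e' : (r : G) = t * x := e
    rw [← e']
    apply huG r hr
    intro s hs
    apply Subtype.ext
    change (r : G) * s = s * r
    rw [e']
    have c1 : Commute (s : G) t := h.st.Kt s s.2
    have c2 : Commute (s : G) x := (hxR _ ⟨s, hs, rfl⟩ : x * (s : G) = s * x).symm
    exact (c1.mul_right c2).symm.eq
  · exfalso
    have h1 : x * (v : G) = v * x := hxR _ ⟨v, sh.uR, rfl⟩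
    rw [h1, mul_inv_cancel_right] at e
    exact Glue.u_ne_inv sh (Subtype.ext e)

/-- the hypotheses of `CompM.Hyp` -/
theorem hyp [Finite G] (o : Out K t q z P) (sh : SheetHS z v k P R) (m : SheetHSM z v k P R)
    (hvz : (v : G) * z = z * v) :
    CompM.Hyp (X := ↥(centralizer ({(z : G)} : Set G)))
      ⟨z, mem_centralizer_singleton_iff.2 rfl⟩ ⟨t, mem_centralizer_singleton_iff.2 o.emb.comm⟩
      ⟨v, mem_centralizer_singleton_iff.2 hvz⟩ (toX z R) (toX z P) := by
  have h := o.emb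
  have : Fact (Nat.Prime 2) := ⟨Nat.prime_two⟩
  set H : Subgroup G := centralizer ({(z : G)} : Set G) with hH
  have hmemH : ∀ x, x ∈ H ↔ x * z = z * x := fun x => mem_centralizer_singleton_iff
  have hPz : ∀ x ∈ P, x * z = z * x := sh.basic.cen
  have hRz : ∀ x ∈ R, x * z = z * x := fun x hx => hPz x (sh.RP hx)
  have hPt : ∀ x ∈ P.map K.subtype, x * t = t * x := by
    rintro _ ⟨x, -, rfl⟩
    exact h.st.Kt x x.2
  have hinj : Function.Injective (Subgroup.map H.subtype) := map_injective H.subtype_injective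
  have hmP : (toX z P).map H.subtype = P.map K.subtype := map_toX hPz
  have hmR : (toX z R).map H.subtype = R.map K.subtype := map_toX hRz
  set t' : H := ⟨t, mem_centralizer_singleton_iff.2 o.emb.comm⟩ with ht'
  set z' : H := ⟨z, mem_centralizer_singleton_iff.2 rfl⟩ with hz'
  set u' : H := ⟨v, mem_centralizer_singleton_iff.2 hvz⟩ with hu'
  have hzc : ∀ x : H, x * z' = z' * x := fun x => Subtype.ext ((hmemH x).1 x.2)
  have hct : ∀ x : H, x * t' = t' * x ↔ (x : G) * t = t * x := fun x =>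
    ⟨fun e => congrArg Subtype.val e, fun e => Subtype.ext e⟩
  have hzp : ∀ x : H, (x : G) ∈ zpowers (v : G) → x ∈ zpowers u' := by
    intro x hx
    obtain ⟨i, hi⟩ := mem_zpowers_iff.1 hx
    refine mem_zpowers_iff.2 ⟨i, Subtype.ext ?_⟩
    rw [SubgroupClass.coe_zpow]
    exact hi
  have hzp' : ∀ x : H, x ∈ zpowers u' → (x : G) ∈ K := by
    intro x hx
    obtain ⟨i, hi⟩ := mem_zpowers_iff.1 hx
    rw [← hi, SubgroupClass.coe_zpow]
    exact K.zpow_mem v.2 i
  have hRP' : toX z R ≤ toX z P := fun x hx => (map_mono sh.RP) hx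
  have hPperf : ⁅toX z P, toX z P⁆ = toX z P := by
    apply hinj
    rw [map_commutator, hmP, ← map_commutator, sh.perf]
  -- conjugation
  have hconj : ∀ B : Subgroup H, (∀ p ∈ toX z P, ∀ b ∈ B, p * b * p⁻¹ ∈ B) →
      ∀ p ∈ P, ∀ b ∈ frX z B, p * b * p⁻¹ ∈ frX z B := by
    intro B hB p hp b hb
    obtain ⟨y, hy, hyb⟩ := mem_frX.1 hb
    have hpH : (p : G) ∈ H := map_le_cent hPz ⟨p, hp, rfl⟩
    refine mem_frX.2 ⟨⟨p, hpH⟩ * y * ⟨p, hpH⟩⁻¹, hB ⟨p, hpH⟩ ⟨p, hp, rfl⟩ y hy, ?_⟩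
    change (p : G) * y * (p : G)⁻¹ = p * b * (p : G)⁻¹
    rw [hyb]
  exact
    { zc := hzc
      zz := Subtype.ext h.zz
      z1 := fun e => h.z1 (congrArg Subtype.val e)
      tt := Subtype.ext h.st.tt
      t1 := fun e => h.st.t1 (congrArg Subtype.val e)
      tu := fun e => h.tK (hzp' t' e)
      uu := Subtype.ext (show (v : G) * v = z from congrArg Subtype.val sh.uu)
      uR := ⟨v, sh.uR, rfl⟩
      uP := by
        rintro x ⟨p, hp, hpx⟩
        apply Subtype.ext
        have h1 : (p : G) * v = v * p := congrArg Subtype.val ((sh.memP p).1 hp)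
        have h2 : (p : G) = x := hpx
        change (x : G) * v = v * x
        rw [← h2]; exact h1
      RP := hRP'
      Pt := fun x hx => Subtype.ext (hPt x hx)
      Pperf := hPperf
      Pn := fun x hx p hp => h.conj_P ((hct x).1 hx) ((hmemH x).1 x.2) hp
      Rn := by
        rintro x hx r ⟨r', hr', hr⟩
        have hxt := (hct x).1 hx
        refine ⟨Glue.al h hxt r', ?_, ?_⟩
        · apply map_R sh _ ?_ hr'
          apply Subtype.ext
          rw [Glue.al_apply, (hmemH x).1 x.2]; group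
        · change ((Glue.al h hxt r' : K) : G) = x * r * (x : G)⁻¹
          have h2 : (r' : G) = r := hr
          rw [Glue.al_apply, h2]
      R2 := by
        have h1 : IsPGroup 2 (R.map K.subtype) := (R2 sh).map _
        exact h1.comap_of_injective H.subtype H.subtype_injective
      Rna := by
        obtain ⟨a, ha, b, hb, hab⟩ := Rna sh
        have haH : (a : G) ∈ H := map_le_cent hRz ⟨a, ha, rfl⟩
        have hbH : (b : G) ∈ H := map_le_cent hRz ⟨b, hb, rfl⟩
        refine ⟨⟨a, haH⟩, ⟨a, ha, rfl⟩, ⟨b, hbH⟩, ⟨b, hb, rfl⟩, fun e => hab (Subtype.ext ?_)⟩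
        have e' : (⟨(a : G), haH⟩ : H) * ⟨(b : G), hbH⟩ = ⟨(b : G), hbH⟩ * ⟨(a : G), haH⟩ := e
        exact (congrArg (fun y : H => (y : G)) e' : (a : G) * b = b * a)
      cR := by
        intro x hx hxR
        rcases cR_of o sh m ((hct x).1 hx) ((hmemH x).1 x.2) (by
          intro r hr
          have hrH : r ∈ H := map_le_cent hRz hr
          exact congrArg Subtype.val (hxR ⟨r, hrH⟩ hr)) with e | e
        · exact Or.inl (hzp x e)
        · exact Or.inr (hzp (t' * x) e)
      res := by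
        intro S hSt hp
        exact res' h (fun x hx => (hct x).1 (mem_centralizer_singleton_iff.1 (hSt hx))) hp
      nrm := by
        intro B hB hBn
        rcases nrm sh m (frX_le hB) (hconj B hBn) with e | e
        · left
          rw [← toX_frX hB, e]
        · right
          rw [← toX_frX hB]
          exact fun x hx => (map_mono e) hx
      abR := by
        intro B hB hBn hab b hb
        rcases sh.subs _ (frX_le hB) (hconj B hBn) with e | e
        · apply hzp
          apply mem_zpowers_of sh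
          obtain ⟨h1, h2⟩ := Emb.mem_map.1 (mem_toX.1 (hB hb))
          rcases e ⟨b, h1⟩ (mem_frX.2 ⟨b, hb, rfl⟩) with e | e | e | e
          · exact Or.inl (congrArg Subtype.val e)
          · exact Or.inr (Or.inl (congrArg Subtype.val e))
          · exact Or.inr (Or.inr (Or.inl (congrArg Subtype.val e)))
          · exact Or.inr (Or.inr (Or.inr (congrArg Subtype.val e)))
        · exfalso
          obtain ⟨c, hc, d, hd, hcd⟩ := Rna sh
          rw [← e] at hc hd
          obtain ⟨c', hc', e1⟩ := mem_frX.1 hc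
          obtain ⟨d', hd', e2⟩ := mem_frX.1 hd
          apply hcd
          apply Subtype.ext
          change (c : G) * d = d * c
          rw [← e1, ← e2]
          exact congrArg Subtype.val (hab c' hc' d' hd')
      out := by
        intro x hx hxP
        rcases out_of o sh m ((hct x).1 hx) ((hmemH x).1 x.2) (by
          intro p hp
          have hpH : p ∈ H := map_le_cent hPz hp
          exact hxP ⟨p, hpH⟩ hp) with e | e | e
        · exact Or.inl e
        · exact Or.inr (Or.inl e)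
        · exact Or.inr (Or.inr (Subtype.ext e))
      cardR := by
        have h1 : Nat.card (toX z R) = Nat.card R := by
          have h2 : Nat.card ((toX z R).map H.subtype) = Nat.card (toX z R) :=
            (Nat.card_congr ((toX z R).equivMapOfInjective _ H.subtype_injective).toEquiv).symm
          rw [← h2, hmR]
          exact (Nat.card_congr (R.equivMapOfInjective _ K.subtype_injective).toEquiv).symm
        rw [h1, sh.cardR]
      idx := by
        intro B hB hBi
        apply le_antisymm hB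
        have hperf' : ⁅(⊤ : Subgroup (toX z P)), (⊤ : Subgroup (toX z P))⁆ = (⊤ : Subgroup (toX z P)) := by
          apply map_injective (toX z P).subtype_injective
          rw [map_commutator, ← MonoidHom.range_eq_map, range_subtype, hPperf]
        have h1 := Cfsg.Agent.Schreier.ClassBase.le_of_index_le_four hperf' (B.subgroupOf (toX z P))
          FiniteIndex.index_ne_zero (by
            have : B.relIndex (toX z P) = (B.subgroupOf (toX z P)).index := rfl
            omega)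
        intro x hx
        exact mem_subgroupOf.1 (h1 (mem_top (⟨x, hx⟩ : toX z P))) }

end Cfsg.Agent.OddHalf.D8.HS.GlueM

end

-- merged: Cfsg.Agent.OddHalf.D8.HS.NoQuat
section

/-!
# Normal 2-subgroups of `C(z)` containing `u⁻¹ t`

`z = u²`, `t` is an involution commuting with `u`, `V` is a 2-subgroup normalised by `C(z)` which centralises `P`, and
`c = u⁻¹ t ∈ V`, `C_V(t) ≤ ⟨c⟩`. If `j` commutes with `t`, and `u`, `u^j` commute and have different squares and
`u^j`, `u^(j⁻¹) ∈ P`, then `V` centralises `t`, so `V = ⟨c⟩`: `V`, `V^j` centralise `z^j`, `z`, so they normalise each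
other; the intersection is trivial (`t` fixes no involution in it), so they commute; `V^j` centralises `c` and `u`,
hence `t`.
-/

set_option autoImplicit false

namespace Cfsg.Agent.OddHalf.D8.HS.NoQuat

open Subgroup

variable {G : Type*} [Group G]

/-- an involution normalising a nontrivial 2-group centralises an element of it -/
theorem exists_fixed [Finite G] {t : G} (tt : t * t = 1) {D : Subgroup G} (D2 : IsPGroup 2 D) (hD : D ≠ ⊥)
    (nD : ∀ x ∈ D, t * x * t⁻¹ ∈ D) : ∃ d ∈ D, d ≠ 1 ∧ d * t = t * d := by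
  classical
  have : Fact (Nat.Prime 2) := ⟨Nat.prime_two⟩
  have : Fintype D := Fintype.ofFinite D
  have ti : t⁻¹ = t := inv_eq_of_mul_eq_one_left tt
  let f : D → D := fun x => ⟨t * x * t⁻¹, nD x x.2⟩
  have hf : Function.Involutive f := by
    intro x
    apply Subtype.ext
    show t * (t * x * t⁻¹) * t⁻¹ = x
    rw [ti]
    calc t * (t * (x : G) * t) * t = (t * t) * x * (t * t) := by group
      _ = x := by rw [tt, one_mul, mul_one]
  let g : Function.End D := f
  have hg : g ^ 2 ^ 1 = 1 := by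
    funext x
    exact hf x
  have h1 : Fintype.card D ≡ Fintype.card (Function.fixedPoints g) [MOD 2] :=
    Equiv.Perm.card_fixedPoints_modEq hg
  have h2 : 2 ∣ Fintype.card D := by
    obtain ⟨n, hn⟩ := IsPGroup.iff_card.1 D2
    rw [← Nat.card_eq_fintype_card, hn]
    rcases n with _ | n
    · exfalso
      apply hD
      rw [pow_zero] at hn
      exact (Subgroup.card_eq_one).1 hn
    · exact dvd_pow_self 2 (Nat.succ_ne_zero n)
  have h3 : 2 ∣ Fintype.card (Function.fixedPoints g) := (Nat.modEq_zero_iff_dvd.1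
    (h1.symm.trans (Nat.modEq_zero_iff_dvd.2 h2)))
  have hone : (1 : D) ∈ Function.fixedPoints g := by
    apply Subtype.ext
    show t * ((1 : D) : G) * t⁻¹ = ((1 : D) : G)
    rw [Subgroup.coe_one, mul_one, mul_inv_cancel]
  have h4 : 1 < Fintype.card (Function.fixedPoints g) := by
    have : 0 < Fintype.card (Function.fixedPoints g) := Fintype.card_pos_iff.2 ⟨⟨1, hone⟩⟩
    omega
  obtain ⟨d, hd⟩ := Fintype.exists_ne_of_one_lt_card h4 ⟨1, hone⟩
  refine ⟨d.1, d.1.2, ?_, ?_⟩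
  · intro e
    exact hd (Subtype.ext (Subtype.ext e))
  · have h5 : t * (d.1 : G) * t⁻¹ = d.1 := congrArg Subtype.val d.2
    rw [mul_inv_eq_iff_eq_mul] at h5
    exact h5.symm

/-- **`V` centralises `t`** -/
theorem comm_t [Finite G] {t z u j : G} {V P : Subgroup G} (tt : t * t = 1) (uu : u * u = z) (zz : z * z = 1)
    (z1 : z ≠ 1) (ut : u * t = t * u) (jt : j * t = t * j) (hz : j * z * j⁻¹ ≠ z)
    (uP : j * u * j⁻¹ ∈ P) (uP' : j⁻¹ * u * j ∈ P)
    (nV : ∀ g, g * z = z * g → ∀ x ∈ V, g * x * g⁻¹ ∈ V) (V2 : IsPGroup 2 V)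
    (VP : ∀ p ∈ P, ∀ x ∈ V, x * p = p * x) (cV : u⁻¹ * t ∈ V)
    (hC : ∀ x ∈ V, x * t = t * x → x = 1 ∨ x = z ∨ x * x = z) : ∀ x ∈ V, x * t = t * x := by
  have ti : t⁻¹ = t := inv_eq_of_mul_eq_one_left tt
  have zt : z * t = t * z := by
    rw [← uu]
    have : Commute u t := ut
    exact (this.mul_left this).eq
  -- `z^j`, `z^(j⁻¹)` are in `P`
  have e1 : j * z * j⁻¹ = (j * u * j⁻¹) * (j * u * j⁻¹) := by rw [← uu]; group
  have e2 : j⁻¹ * z * j = (j⁻¹ * u * j) * (j⁻¹ * u * j) := by rw [← uu]; group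
  have zP : j * z * j⁻¹ ∈ P := by rw [e1]; exact P.mul_mem uP uP
  have zP' : j⁻¹ * z * j ∈ P := by rw [e2]; exact P.mul_mem uP' uP'
  -- (A), (B)
  have hA : ∀ x ∈ V, (j⁻¹ * x * j) * z = z * (j⁻¹ * x * j) := by
    intro x hx
    have h1 := VP _ zP x hx
    calc j⁻¹ * x * j * z = j⁻¹ * (x * (j * z * j⁻¹)) * j := by group
      _ = j⁻¹ * (j * z * j⁻¹ * x) * j := by rw [h1]
      _ = z * (j⁻¹ * x * j) := by group
  have hB : ∀ x ∈ V, (j * x * j⁻¹) * z = z * (j * x * j⁻¹) := by
    intro x hx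
    have h1 := VP _ zP' x hx
    calc j * x * j⁻¹ * z = j * (x * (j⁻¹ * z * j)) * j⁻¹ := by group
      _ = j * (j⁻¹ * z * j * x) * j⁻¹ := by rw [h1]
      _ = z * (j * x * j⁻¹) := by group
  have hBu : ∀ x ∈ V, (j * x * j⁻¹) * u = u * (j * x * j⁻¹) := by
    intro x hx
    have h1 := VP _ uP' x hx
    calc j * x * j⁻¹ * u = j * (x * (j⁻¹ * u * j)) * j⁻¹ := by group
      _ = j * (j⁻¹ * u * j * x) * j⁻¹ := by rw [h1]
      _ = u * (j * x * j⁻¹) := by group
  set V' : Subgroup G := V.map (MulAut.conj j).toMonoidHom with hV'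
  have mV' : ∀ y, y ∈ V' ↔ j⁻¹ * y * j ∈ V := by
    intro y
    constructor
    · rintro ⟨x, hx, rfl⟩
      have : j⁻¹ * (j * x * j⁻¹) * j = x := by group
      change j⁻¹ * (j * x * j⁻¹) * j ∈ V
      rwa [this]
    · intro hy
      refine ⟨_, hy, ?_⟩
      change j * (j⁻¹ * y * j) * j⁻¹ = y
      group
  -- the intersection
  have hD : V ⊓ V' = ⊥ := by
    by_contra hne
    obtain ⟨d, ⟨hdV, hdV'⟩, hd1, hdt⟩ := exists_fixed (D := V ⊓ V') tt (V2.to_le inf_le_left) hne (by
      rintro x ⟨hx, hx'⟩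
      refine ⟨nV t zt.symm x hx, (mV' _).2 ?_⟩
      have h1 := nV t zt.symm _ ((mV' _).1 hx')
      have h2 : t * (j⁻¹ * x * j) * t⁻¹ = j⁻¹ * (t * x * t⁻¹) * j := by
        have c1 : Commute j t := jt
        have h3 : t * j⁻¹ = j⁻¹ * t := c1.inv_left.eq.symm
        have h4 : j * t⁻¹ = t⁻¹ * j := c1.inv_right.eq
        calc t * (j⁻¹ * x * j) * t⁻¹ = (t * j⁻¹) * x * (j * t⁻¹) := by group
          _ = (j⁻¹ * t) * x * (t⁻¹ * j) := by rw [h3, h4]
          _ = j⁻¹ * (t * x * t⁻¹) * j := by group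
      rwa [h2] at h1)
    have h1 := hC d hdV hdt
    replace hdV' := (mV' _).1 hdV'
    have hdt' : (j⁻¹ * d * j) * t = t * (j⁻¹ * d * j) := by
      have c1 : Commute j t := jt
      have c2 : Commute d t := hdt
      exact ((c1.inv_left.mul_left c2).mul_left c1).eq
    have h2 := hC _ hdV' hdt'
    -- `z' = z^j`
    have h3 : d = 1 ∨ d = j * z * j⁻¹ ∨ d * d = j * z * j⁻¹ := by
      rcases h2 with e | e | e
      · left
        calc d = j * (j⁻¹ * d * j) * j⁻¹ := by group
          _ = 1 := by rw [e]; group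
      · right; left
        rw [← e]; group
      · right; right
        rw [← e]; group
    have zz' : j * z * j⁻¹ * (j * z * j⁻¹) = 1 := by
      calc j * z * j⁻¹ * (j * z * j⁻¹) = j * (z * z) * j⁻¹ := by group
        _ = 1 := by rw [zz]; group
    have z1' : j * z * j⁻¹ ≠ 1 := by
      rw [Ne, conj_eq_one_iff]
      exact z1
    rcases h1 with e | e | e
    · exact hd1 e
    · rcases h3 with e' | e' | e'
      · exact hd1 e'
      · exact hz (e'.symm.trans e)
      · rw [e, zz] at e'; exact z1' e'.symm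
    · rcases h3 with e' | e' | e'
      · exact hd1 e'
      · rw [e', zz'] at e; exact z1 e.symm
      · exact hz (e'.symm.trans e)
  -- they commute
  have hcomm : ∀ x ∈ V, ∀ y ∈ V, x * (j * y * j⁻¹) = (j * y * j⁻¹) * x := by
    intro x hx y hy
    have h1 : x * (j * y * j⁻¹) * x⁻¹ * (j * y * j⁻¹)⁻¹ ∈ V ⊓ V' := by
      constructor
      · have h2 := nV _ (hB y hy) x⁻¹ (V.inv_mem hx)
        have h3 := V.mul_mem hx h2
        have h4 : x * (j * y * j⁻¹ * x⁻¹ * (j * y * j⁻¹)⁻¹) = x * (j * y * j⁻¹) * x⁻¹ * (j * y * j⁻¹)⁻¹ := by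
          group
        rwa [h4] at h3
      · refine (mV' _).2 ?_
        have h2 := nV _ (hA x hx) y hy
        have h3 := V.mul_mem h2 (V.inv_mem hy)
        have h4 : j⁻¹ * x * j * y * (j⁻¹ * x * j)⁻¹ * y⁻¹ =
            j⁻¹ * (x * (j * y * j⁻¹) * x⁻¹ * (j * y * j⁻¹)⁻¹) * j := by group
        rwa [h4] at h3
    rw [hD, mem_bot, mul_inv_eq_one, mul_inv_eq_iff_eq_mul] at h1
    exact h1
  intro x hx
  have c1 : Commute (j * x * j⁻¹) (u⁻¹ * t) := (hcomm _ cV x hx).symm
  have c2 : Commute (j * x * j⁻¹) u := hBu x hx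
  have c3 : Commute (j * x * j⁻¹) t := by
    have h1 := c2.mul_right c1
    rwa [mul_inv_cancel_left] at h1
  have c4 : Commute j t := jt
  have c5 : Commute (j⁻¹ * (j * x * j⁻¹) * j) t := (c4.inv_left.mul_left c3).mul_left c4
  have e : j⁻¹ * (j * x * j⁻¹) * j = x := by group
  rw [e] at c5
  exact c5.eq

end Cfsg.Agent.OddHalf.D8.HS.NoQuat

end

-- merged: Cfsg.Agent.OddHalf.D8.HS.Row
section

/-!
# ODD half, D8: the row `K = HS` (helper702)

`row_of`: the row from
* `hK`: every group `K` isomorphic to `HS` has the fact sheet `SheetHS` (helper473);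
* `hM`: `C_G(z)` has no component (case (M); helper896, helper970);
* `hE`: no involution `z` of `G` with `F*(C_G(z))` of symplectic type and not extraspecial (S1758; helper970).
-/

set_option autoImplicit false

namespace Cfsg.Agent.OddHalf.D8.HS.Row

open Subgroup Cfsg Cfsg.Agent.OddHalf.Front.FE Cfsg.Agent.OddHalf.D8.Sheet Cfsg.Agent.OddHalf.D8.GlueE
  Cfsg.Agent.OddHalf.D8.Front Cfsg.Agent.OddHalf.D8.HS.SheetHS

universe u

/-- Case (M): `C_G(z)` has no component. -/
def NoComp : Prop :=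
  ∀ (G : Type u) [Group G], Iface.Ctx G → ∀ (K : Subgroup G) (t q : G) (z v k : K) (P R : Subgroup K),
    Out K t q z P → SheetHS z v k P R →
    ∀ M : Subgroup ↥(centralizer ({(z : G)} : Set G)), ¬ IsComponent M

/-- `F*(C_G(z))` is not of symplectic type, unless extraspecial. -/
def Elim : Prop :=
  ∀ (G : Type u) [Group G], Iface.Ctx G → ∀ z : G, orderOf z = 2 →
    IsOfSymplecticType ↥(generalizedFittingSubgroup ↥(centralizer ({z} : Set G))) →
    ¬ IsExtraspecial 2 ↥(generalizedFittingSubgroup ↥(centralizer ({z} : Set G))) → False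

/-- a group with a sheet has no central 2-elements -/
theorem center_eq_bot {K : Type*} [Group K] [Finite K] {z v k : K} {P R : Subgroup K}
    (sh : SheetHS z v k P R) (h2 : IsPGroup 2 ↥(center K)) : center K = ⊥ := by
  rw [eq_bot_iff]
  intro y hy
  rw [mem_bot]
  obtain ⟨S, -, -, hcS⟩ := sh.syl
  have h3 : (center K : Subgroup K) ≤ S := by
    have h4 : IsPGroup 2 ((center K ⊔ S : Subgroup K)) := h2.to_sup_of_normal_left S.isPGroup'
    have h5 := S.is_maximal' h4 le_sup_right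
    exact (le_sup_left : center K ≤ center K ⊔ S).trans h5.le
  rcases hcS y (h3 hy) (fun x _ => mem_center_iff.1 hy x) with e | e
  · exact e
  · exfalso
    apply sh.kP
    have h4 : k⁻¹ * z * k = z := by
      rw [← e, mul_assoc, ← mem_center_iff.1 hy k]; group
    rw [h4]
    exact sh.basic.zP

/-- **the row of `HS`** -/
theorem row_of (hM : NoComp.{u}) (hE : Elim.{u}) {X : (K : Type u) → [Group K] → Prop}
    (hK : ∀ (K : Type u) [Group K], Finite K → X K →
      ∃ (z v k : K) (P R : Subgroup K), SheetHS z v k P R) : Rows.Row.{u} X := by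
  intro G _ C K S hcyc hX
  have hfin := C.fin
  obtain ⟨z, v, k, P, R, sh⟩ := hK K inferInstance hX
  obtain ⟨t, q, st⟩ := exists_start C S hcyc (center_eq_bot sh S.z2)
  have o : Out K t q z P := MainE.out_of_emb C ⟨st, sh.basic⟩
  obtain ⟨h1, h2⟩ := Glue.concl C o sh (hM G C K t q z v k P R o sh)
  exact hE G C z (MainE.orderOf_z o.emb) h1 h2

end Cfsg.Agent.OddHalf.D8.HS.Row

end

-- merged: Cfsg.Agent.OddHalf.D8.HS.EndM
section

/-!
# ODD half, D8, `K = HS`, case (M): the end, and the row (helper970)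

`noComp`: `C_G(z)` has no component. `row`: the row `HS` of D8.
-/

set_option autoImplicit false

namespace Cfsg.Agent.OddHalf.D8.HS.EndM

open Subgroup Cfsg Cfsg.Agent.OddHalf.Front.FE Cfsg.Agent.OddHalf.D8.Sheet Cfsg.Agent.OddHalf.D8.GlueE
  Cfsg.Agent.OddHalf.D8.Front Cfsg.Agent.OddHalf.D8.HS.SheetHS Cfsg.Agent.OddHalf.Iface
open Cfsg.Agent.OddHalf.CaseM (toX mem_toX map_le_cent map_toX compOf_map sch_of_comp even_card
  le_sup_centralizer rank_two)
open Cfsg.Agent.OddHalf.D8.HS.GlueM (SheetHSM)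
open Cfsg.Agent.Schreier.Basic
open Cfsg.Agent.Cit (cj mem_cj conj_mem_cj conj_mem_cj_iff)

universe u

variable {G : Type u} [Group G]

/-! ### standard subgroups -/

theorem standard [Finite G] {z : G} (hz : orderOf z = 2) {M : Subgroup G} (hM : CompOf z M) (hzM : z ∈ M)
    (hcyc : IsCyclic ↥(centralizer (M : Set G))) : IsStandardSubgroup M := by
  have hzc : z ∈ centralizer (M : Set G) := by
    rw [mem_centralizer_iff]
    intro x hx
    exact mem_centralizer_singleton_iff.1 (hM.1 hx)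
  have hcomm : ∀ x ∈ centralizer (M : Set G), ∀ y ∈ centralizer (M : Set G), x * y = y * x := by
    intro x hx y hy
    have h1 : IsMulCommutative ↥(centralizer (M : Set G)) := IsCyclic.isMulCommutative
    exact congrArg Subtype.val (h1.is_comm.comm (⟨x, hx⟩ : centralizer (M : Set G)) ⟨y, hy⟩)
  refine Cfsg.Agent.S1306.result z hz M hM.1 hM.2 ?_ ?_
  · intro y hy hyM
    -- `y = z`
    have h1 : y = z := by
      classical
      have : Fintype ↥(centralizer (M : Set G)) := Fintype.ofFinite _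
      have h2 := IsCyclic.card_pow_eq_one_le (α := ↥(centralizer (M : Set G))) (n := 2) (by norm_num)
      by_contra hne
      have hy1 : y ≠ 1 := by
        rintro rfl
        rw [orderOf_one] at hy
        omega
      have hz1 : z ≠ 1 := by
        rintro rfl
        rw [orderOf_one] at hz
        omega
      have hy2 : y ^ 2 = 1 := by rw [← hy]; exact pow_orderOf_eq_one y
      have hz2 : z ^ 2 = 1 := by rw [← hz]; exact pow_orderOf_eq_one z
      have h3 : ({1, ⟨y, hyM⟩, ⟨z, hzc⟩} : Finset ↥(centralizer (M : Set G))) ⊆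
          Finset.univ.filter (fun a => a ^ 2 = 1) := by
        intro x hx
        rw [Finset.mem_filter]
        refine ⟨Finset.mem_univ x, ?_⟩
        rw [Finset.mem_insert, Finset.mem_insert, Finset.mem_singleton] at hx
        rcases hx with e | e | e <;> rw [e]
        · exact one_pow 2
        · exact Subtype.ext hy2
        · exact Subtype.ext hz2
      have h4 := (Finset.card_le_card h3).trans h2
      rw [Finset.card_eq_three.2 ⟨1, ⟨y, hyM⟩, ⟨z, hzc⟩, fun e => hy1 (congrArg Subtype.val e).symm,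
        fun e => hz1 (congrArg Subtype.val e).symm, fun e => hne (congrArg Subtype.val e), rfl⟩] at h4
      omega
    rw [h1]
    exact hM
  · intro g hg hcom
    have hq : IsQuasisimple ↥M := Soft.CompOf.quasisimple hM
    have h1 : M.map (MulAut.conj g).toMonoidHom ≤ centralizer (M : Set G) := by
      rw [← commutator_eq_bot_iff_le_centralizer, commutator_comm]
      exact hcom
    -- `M` is abelian
    have h2 : ∀ x ∈ M, ∀ y ∈ M, x * y = y * x := by
      intro x hx y hy
      have h3 : g * x * g⁻¹ ∈ centralizer (M : Set G) := h1 ⟨x, hx, rfl⟩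
      have h4 : g * y * g⁻¹ ∈ centralizer (M : Set G) := h1 ⟨y, hy, rfl⟩
      have h5 := hcomm _ h3 _ h4
      have h6 : g * (x * y) * g⁻¹ = g * (y * x) * g⁻¹ := by
        calc g * (x * y) * g⁻¹ = (g * x * g⁻¹) * (g * y * g⁻¹) := by group
          _ = (g * y * g⁻¹) * (g * x * g⁻¹) := h5
          _ = g * (y * x) * g⁻¹ := by group
      exact mul_left_cancel (mul_right_cancel h6)
    apply Cfsg.Agent.SignalizersComponents.Components.quasisimple_not_isSolvable hq
    exact Group.isSolvable_of_comm fun x y => Subtype.ext (h2 x x.2 y y.2)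

/-! ### the end -/

variable {K : Subgroup G} {t q : G} {z v k : K} {P R : Subgroup K}

theorem vz (sh : SheetHS z v k P R) : (v : G) * z = z * v :=
  congrArg Subtype.val (sh.basic.cen v (sh.RP sh.uR))

/-- `P ≤ M` for every component `M` of `C_G(z)` -/
theorem main_comp (C : Ctx G) (hSch : Cfsg.Agent.Schreier.Cases.SchFor.{u} @IsKnownSimple')
    (hGW : SylowSp4.Hyps.GW.{u}) (o : Out K t q z P) (sh : SheetHS z v k P R) (m : SheetHSM z v k P R)
    {M : Subgroup ↥(centralizer ({(z : G)} : Set G))} (hM : IsComponent M) : toX z P ≤ M := by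
  have hfin := C.fin
  have h := GlueM.hyp o sh m (vz sh)
  have hz := D8.MainE.orderOf_z o.emb
  have hcomp := compOf_map hM
  have hSchM : Sch (↥M ⧸ center ↥M) := by
    have e : ↥(M.map (centralizer ({(z : G)} : Set G)).subtype) ≃* ↥M :=
      (M.equivMapOfInjective _ (centralizer ({(z : G)} : Set G)).subtype_injective).symm
    exact Cfsg.Agent.Schreier.Balance.sch_center_quotient e (sch_of_comp C hSch hz hcomp)
  have hev : 2 ∣ Nat.card M := by
    have h1 := even_card C hz hcomp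
    rwa [Nat.card_congr (M.equivMapOfInjective _
      (centralizer ({(z : G)} : Set G)).subtype_injective).toEquiv.symm] at h1
  rcases h.main hM (fun hn => le_sup_centralizer hM.2.1 hSchM h.Pperf hn) hev with ⟨hzM, huniq⟩ | hP
  · exfalso
    refine rank_two C hGW hz hcomp ⟨_, hzM, rfl⟩ ?_
    intro E _ hE
    have hEz : ∀ x ∈ E, x = 1 ∨ ((x : ↥(M.map (centralizer ({(z : G)} : Set G)).subtype)) : G) = z := by
      intro x hx
      obtain ⟨y, hy, hyx⟩ := x.2
      have h1 : ((x : ↥(M.map (centralizer ({(z : G)} : Set G)).subtype)) : G) *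
          ((x : ↥(M.map (centralizer ({(z : G)} : Set G)).subtype)) : G) = 1 := by
        have := congrArg Subtype.val (hE x hx)
        rw [pow_two] at this
        exact this
      rcases huniq y hy (by
        apply Subtype.ext
        change (y : G) * y = 1
        have hyx' : (y : G) = ((x : ↥(M.map (centralizer ({(z : G)} : Set G)).subtype)) : G) := hyx
        rw [hyx']; exact h1) with e | e
      · left
        apply Subtype.ext
        rw [← hyx, e]; rfl
      · right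
        rw [← hyx, e]; rfl
    have hle : E ≤ zpowers (⟨z, ⟨_, hzM, rfl⟩⟩ : ↥(M.map (centralizer ({(z : G)} : Set G)).subtype)) := by
      intro x hx
      rcases hEz x hx with e | e
      · rw [e]; exact one_mem _
      · have : x = ⟨z, ⟨_, hzM, rfl⟩⟩ := Subtype.ext e
        rw [this]; exact mem_zpowers _
    have hcard := Subgroup.card_le_of_le hle
    rw [Nat.card_zpowers] at hcard
    have ho : orderOf (⟨z, ⟨_, hzM, rfl⟩⟩ : ↥(M.map (centralizer ({(z : G)} : Set G)).subtype)) = 2 := by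
      rw [← Subgroup.orderOf_coe]; exact hz
    rw [ho] at hcard
    exact hcard
  · exact hP

theorem sq_mul {X : Type*} [Group X] {c z : X} (h : c * z = z * c) (zz : z * z = 1) (cc : c * c = z) :
    c * z * (c * z) = z := by
  calc c * z * (c * z) = c * (z * c) * z := by group
    _ = c * (c * z) * z := by rw [h]
    _ = (c * c) * (z * z) := by group
    _ = z := by rw [cc, zz, mul_one]

/-- a normal 2-subgroup of `C(M)` containing `v⁻¹ t` centralises `t` -/
theorem vt [Finite G] (o : Out K t q z P) (sh : SheetHS z v k P R) (m : SheetHSM z v k P R)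
    {M : Subgroup ↥(centralizer ({(z : G)} : Set G))} (hP : toX z P ≤ M)
    {V : Subgroup ↥(centralizer ({(z : G)} : Set G))} (hVn : V.Normal)
    (hVM : V ≤ centralizer (M : Set ↥(centralizer ({(z : G)} : Set G)))) (hV2 : IsPGroup 2 V)
    (hcV : (⟨v, mem_centralizer_singleton_iff.2 (vz sh)⟩ : ↥(centralizer ({(z : G)} : Set G)))⁻¹ *
      ⟨t, mem_centralizer_singleton_iff.2 o.emb.comm⟩ ∈ V)
    (hVt : ∀ y ∈ V, y * ⟨t, mem_centralizer_singleton_iff.2 o.emb.comm⟩ =
      ⟨t, mem_centralizer_singleton_iff.2 o.emb.comm⟩ * y → y ∈ zpowers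
      ((⟨v, mem_centralizer_singleton_iff.2 (vz sh)⟩ : ↥(centralizer ({(z : G)} : Set G)))⁻¹ *
      ⟨t, mem_centralizer_singleton_iff.2 o.emb.comm⟩)) :
    ∀ y ∈ V, y * ⟨t, mem_centralizer_singleton_iff.2 o.emb.comm⟩ =
      ⟨t, mem_centralizer_singleton_iff.2 o.emb.comm⟩ * y := by
  have h := GlueM.hyp o sh m (vz sh)
  have he := o.emb
  obtain ⟨j, hj, hjz⟩ := m.cj
  have hzpow := @CompM.Hyp.mem_four _ _ _ _ _ _ _ h _ h.c_sq
  have hj' : j⁻¹ * v * j * v = v * (j⁻¹ * v * j) := by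
    calc j⁻¹ * v * j * v = j⁻¹ * (v * (j * v * j⁻¹)) * j := by group
      _ = j⁻¹ * (j * v * j⁻¹ * v) * j := by rw [hj]
      _ = v * (j⁻¹ * v * j) := by group
  have key := NoQuat.comm_t (t := t) (z := (z : G)) (u := (v : G)) (j := (j : G))
    (V := V.map (centralizer ({(z : G)} : Set G)).subtype) (P := P.map K.subtype) he.st.tt
    (congrArg Subtype.val sh.uu) he.zz he.z1 (he.st.Kt v v.2) (he.st.Kt j j.2)
    (fun e => hjz (Subtype.ext e)) ⟨_, (sh.memP _).2 hj, rfl⟩ ⟨_, (sh.memP _).2 hj', rfl⟩ (by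
      rintro g hg _ ⟨x, hx, rfl⟩
      exact ⟨⟨g, mem_centralizer_singleton_iff.2 hg⟩ * x * ⟨g, mem_centralizer_singleton_iff.2 hg⟩⁻¹,
        hVn.conj_mem x hx _, rfl⟩) (hV2.map _) (by
      rintro _ ⟨p, hp, rfl⟩ _ ⟨x, hx, rfl⟩
      have hpM : (⟨p, map_le_cent sh.basic.cen ⟨p, hp, rfl⟩⟩ : ↥(centralizer ({(z : G)} : Set G))) ∈ M :=
        hP ⟨p, hp, rfl⟩
      exact (congrArg Subtype.val (mem_centralizer_iff.1 (hVM hx) _ hpM)).symm) ⟨_, hcV, rfl⟩ (by
      rintro _ ⟨x, hx, rfl⟩ hxt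
      have h1 := hVt x hx (Subtype.ext hxt)
      rcases hzpow.1 h1 with e | e | e | e
      · left; rw [e]; rfl
      · right; left; rw [e]; rfl
      · right; right
        rw [e]
        exact congrArg Subtype.val h.c_sq
      · right; right
        have h2 := h.zc ((⟨v, mem_centralizer_singleton_iff.2 (vz sh)⟩ : ↥(centralizer ({(z : G)} : Set G)))⁻¹ *
          ⟨t, mem_centralizer_singleton_iff.2 o.emb.comm⟩)
        have h3 : x * x = ⟨z, mem_centralizer_singleton_iff.2 rfl⟩ := by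
          rw [e]
          exact sq_mul h2 h.zz h.c_sq
        exact congrArg Subtype.val h3)
  intro y hy
  exact Subtype.ext (key _ ⟨y, hy, rfl⟩)

/-- **case (M)** -/
theorem noComp (hSch : Cfsg.Agent.Schreier.Cases.SchFor.{u} @IsKnownSimple')
    (hGW : SylowSp4.Hyps.GW.{u}) (hI : Iface.Intr2.{u}) (hS : CaseM.IntrSign.{u}) (C : Ctx G)
    (o : Out K t q z P) (sh : SheetHS z v k P R) (m : SheetHSM z v k P R)
    (M : Subgroup ↥(centralizer ({(z : G)} : Set G))) : ¬ IsComponent M := by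
  intro hM
  have hfin := C.fin
  have hsimp := C.simple
  have h := GlueM.hyp o sh m (vz sh)
  have hz := D8.MainE.orderOf_z o.emb
  have hcomp := compOf_map hM
  have htH : t ∈ centralizer ({(z : G)} : Set G) := mem_centralizer_singleton_iff.2 o.emb.comm
  have hP := main_comp C hSch hGW o sh m hM
  have T : CompM.Hyp.Top ⟨z, mem_centralizer_singleton_iff.2 rfl⟩
      ⟨t, mem_centralizer_singleton_iff.2 o.emb.comm⟩
      ⟨v, mem_centralizer_singleton_iff.2 (vz sh)⟩ (toX z P) M :=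
    { hM := hM
      PM := hP
      uniq := by
        intro L hL
        by_contra hne
        have hPL := main_comp C hSch hGW o sh m hL
        obtain ⟨a, ha, b, hb, hab⟩ := h.Rna
        exact hab (Cfsg.Agent.Cit.Comp.comm_of_ne hL hM hne (hPL (h.RP ha)) (hP (h.RP hb)))
      core := MainE.core_eq_bot C hz
      TR := by
        intro lam
        have h1 : commutator (centralizer ({(z : G)} : Set G)) ≤ lam.ker := Abelianization.commutator_subset_ker lam
        exact h1 o.com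
      vt := fun V hVn hVM hV2 hcV hVt => vt o sh m hP hVn hVM hV2 hcV hVt }
  have hzM : (z : G) ∈ M.map (centralizer ({(z : G)} : Set G)).subtype :=
    ⟨⟨z, mem_centralizer_singleton_iff.2 rfl⟩, hP ⟨z, sh.basic.zP, rfl⟩, rfl⟩
  rcases h.main2 T with ⟨y, hy⟩ | htM
  · -- cyclic
    have hcent : centralizer ((M.map (centralizer ({(z : G)} : Set G)).subtype : Subgroup G) : Set G) =
        zpowers (y : G) := by
      apply le_antisymm
      · intro g hg
        have hgM : ∀ x ∈ M, (x : G) * g = g * x := fun x hx => mem_centralizer_iff.1 hg x ⟨x, hx, rfl⟩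
        have hgz : g * z = z * g := (mem_centralizer_iff.1 hg z hzM).symm
        have h1 : (⟨g, mem_centralizer_singleton_iff.2 hgz⟩ : ↥(centralizer ({(z : G)} : Set G))) ∈
            centralizer (M : Set ↥(centralizer ({(z : G)} : Set G))) := by
          rw [mem_centralizer_iff]
          intro x hx
          exact Subtype.ext (hgM x hx)
        rw [hy] at h1
        obtain ⟨i, hi⟩ := mem_zpowers_iff.1 h1
        refine mem_zpowers_iff.2 ⟨i, ?_⟩
        rw [← SubgroupClass.coe_zpow, hi]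
      · rw [zpowers_le, mem_centralizer_iff]
        rintro _ ⟨x, hx, rfl⟩
        have h1 : y ∈ centralizer (M : Set ↥(centralizer ({(z : G)} : Set G))) := by
          rw [hy]; exact mem_zpowers y
        exact congrArg Subtype.val (mem_centralizer_iff.1 h1 x hx)
    have hcyc : IsCyclic ↥(centralizer ((M.map (centralizer ({(z : G)} : Set G)).subtype : Subgroup G) : Set G)) := by
      rw [hcent]; infer_instance
    refine hI G C _ (standard hz hcomp hzM hcyc) (fun _ => inferInstance) ⟨z, hz, hzM, ?_⟩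
    rw [mem_centralizer_iff]
    intro x hx
    exact mem_centralizer_singleton_iff.1 (hcomp.1 hx)
  · -- `t ∉ M C(M)`
    have hrk := rank_two C hGW hz hcomp hzM
    have hq := Soft.CompOf.quasisimple hcomp
    have hnt := Soft.CompOf.ne_top C.na hz hcomp
    have hkn := Known.known_quotient C.kproper _ hnt _ hq.2 (Soft.quo_na hq)
    have hn : ∀ g ∈ centralizer ({(z : G)} : Set G), ∀ x ∈ M.map (centralizer ({(z : G)} : Set G)).subtype,
        g * x * g⁻¹ ∈ M.map (centralizer ({(z : G)} : Set G)).subtype := by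
      rintro g hg _ ⟨x, hx, rfl⟩
      exact ⟨⟨g, hg⟩ * x * ⟨g, hg⟩⁻¹, T.normal.conj_mem x hx _, rfl⟩
    have hperf : ⁅M.map (centralizer ({(z : G)} : Set G)).subtype,
        M.map (centralizer ({(z : G)} : Set G)).subtype⁆ = M.map (centralizer ({(z : G)} : Set G)).subtype := by
      rw [← map_commutator, isPerfect_iff.1 hM.2.1]
    obtain ⟨lam, hlam, -, -⟩ := Table.exists_lam_sub hcomp.1 hn hperf (MulEquiv.refl _)
      (hS G C _ z hz hcomp hzM hrk hq.2 (Soft.quo_na hq) hkn) htH (by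
        intro x _
        rw [o.emb.st.tt, one_mul, mul_one]) (by
        rintro _ ⟨x, hx, rfl⟩ c hc hcx e
        apply htM
        have e1 : (⟨t, htH⟩ : ↥(centralizer ({(z : G)} : Set G))) = x * ⟨c, hc⟩ := Subtype.ext e
        rw [e1]
        refine mul_mem (mem_sup_left hx) (mem_sup_right ?_)
        rw [mem_centralizer_iff]
        intro y hy
        exact Subtype.ext (hcx y ⟨y, hy, rfl⟩).symm)
    have h2 : lam ⟨t, htH⟩ = 1 := T.TR lam
    rw [h2] at hlam
    exact absurd hlam (by decide)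

/-- **the row of `HS`** -/
theorem row (hSch : Cfsg.Agent.Schreier.Cases.SchFor.{u} @IsKnownSimple')
    (hGW : SylowSp4.Hyps.GW.{u}) (hI : Iface.Intr2.{u}) (hS : CaseM.IntrSign.{u})
    (hR : Small.Excl.Rows) (h58 : Elim.P1758.{u}) {X : (K : Type u) → [Group K] → Prop}
    (hK : ∀ (K : Type u) [Group K], Finite K → X K →
      ∃ (z v k : K) (P R : Subgroup K), SheetHS z v k P R ∧ SheetHSM z v k P R) : Rows.Row.{u} X := by
  intro G _ C K S hcyc hX
  have hfin := C.fin
  obtain ⟨z, v, k, P, R, sh, m⟩ := hK K inferInstance hX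
  obtain ⟨t, q, st⟩ := exists_start C S hcyc (Row.center_eq_bot sh S.z2)
  have o : Out K t q z P := MainE.out_of_emb C ⟨st, sh.basic⟩
  obtain ⟨h1, h2⟩ := Glue.concl C o sh (noComp hSch hGW hI hS C o sh m)
  exact Elim.false_of_symplectic hR h58 C (MainE.orderOf_z o.emb) h1 h2

end Cfsg.Agent.OddHalf.D8.HS.EndM

end
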